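import Mathlib.RingTheory.AlgebraicIndependent.TranscendenceBasis
import Mathlib.RingTheory.MvPolynomial.Basic
import Mathlib.RingTheory.Nullstellensatz
import Mathlib.RingTheory.Valuation.ValuationRing
import Mathlib.FieldTheory.IsSepClosed
import Mathlib.RingTheory.Jacobson.Ring
import Mathlib.RingTheory.Unramified.Field
import Mathlib.LinearAlgebra.Matrix.Charpoly.Basic

/-!
Systems `z_j ^ p - ∑ i, A i j * z_i = b_j` over separably closed fields and over valuation rings with
separably closed fraction field.
-/

set_option autoImplicit false
universe u v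

namespace K26.SemiLin

open MvPolynomial

section field

variable {K : Type u} [Field K] {r : ℕ} (p : ℕ) (hp : 2 ≤ p) (A : Fin r → Fin r → K) (b : Fin r → K)

/-- The polynomials of the system. -/
noncomputable def f (j : Fin r) : MvPolynomial (Fin r) K :=
  X j ^ p - ∑ i, C (A i j) * X i - C (b j)

include hp in
theorem isIntegral_adjoin : Algebra.IsIntegral (Algebra.adjoin K (Set.range (f p A b)))
    (MvPolynomial (Fin r) K) := by
  classical
  set S₀ := Algebra.adjoin K (Set.range (f p A b)) with hS₀
  have hf : ∀ j, f p A b j ∈ S₀ := fun j => Algebra.subset_adjoin ⟨j, rfl⟩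
  -- the box monomials span
  let N : Submodule S₀ (MvPolynomial (Fin r) K) := Submodule.span S₀
    (Set.range (fun α : Fin r → Fin p => ∏ j, (X j : MvPolynomial (Fin r) K) ^ (α j : ℕ)))
  have key : ∀ n : ℕ, ∀ β : Fin r → ℕ, ∑ j, β j = n →
      ∏ j, (X j : MvPolynomial (Fin r) K) ^ (β j) ∈ N := by
    intro n
    induction n using Nat.strong_induction_on with
    | _ n ih =>
      intro β hβ
      by_cases hbox : ∀ j, β j < p
      · exact Submodule.subset_span ⟨fun j => ⟨β j, hbox j⟩, rfl⟩
      · push Not at hbox
        obtain ⟨j, hj⟩ := hbox
        -- `X ^ β = X ^ γ * X j ^ p`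
        let γ : Fin r → ℕ := Function.update β j (β j - p)
        have hγ : ∀ (t : MvPolynomial (Fin r) K) (e : ℕ), True := fun _ _ => trivial
        have hprod : ∏ l, (X l : MvPolynomial (Fin r) K) ^ (β l) =
            (∏ l, (X l : MvPolynomial (Fin r) K) ^ (γ l)) * X j ^ p := by
          rw [← Finset.mul_prod_erase _ _ (Finset.mem_univ j),
            ← Finset.mul_prod_erase (Finset.univ) (fun l => (X l : MvPolynomial (Fin r) K) ^ (γ l))
              (Finset.mem_univ j)]
          have h1 : ∏ l ∈ Finset.univ.erase j, (X l : MvPolynomial (Fin r) K) ^ (γ l) =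
              ∏ l ∈ Finset.univ.erase j, (X l : MvPolynomial (Fin r) K) ^ (β l) := by
            refine Finset.prod_congr rfl (fun l hl => ?_)
            rw [Finset.mem_erase] at hl
            simp only [γ, Function.update_of_ne hl.1]
          have h2 : (X j : MvPolynomial (Fin r) K) ^ (β j) = X j ^ (γ j) * X j ^ p := by
            rw [← pow_add]
            congr 1
            simp only [γ, Function.update_self]
            omega
          rw [h1, h2]
          ring
        have hsum : ∑ l, γ l + p = n := by
          rw [← hβ, ← Finset.add_sum_erase _ _ (Finset.mem_univ j),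
            ← Finset.add_sum_erase (Finset.univ) β (Finset.mem_univ j)]
          have h1 : ∑ l ∈ Finset.univ.erase j, γ l = ∑ l ∈ Finset.univ.erase j, β l := by
            refine Finset.sum_congr rfl (fun l hl => ?_)
            rw [Finset.mem_erase] at hl
            simp only [γ, Function.update_of_ne hl.1]
          rw [h1]
          simp only [γ, Function.update_self]
          omega
        have hXp : (X j : MvPolynomial (Fin r) K) ^ p =
            f p A b j + ∑ i, C (A i j) * X i + C (b j) := by
          simp only [f]; ring
        rw [hprod, hXp, mul_add, mul_add]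
        refine N.add_mem (N.add_mem ?_ ?_) ?_
        · rw [mul_comm]
          exact N.smul_mem ⟨f p A b j, hf j⟩ (ih _ (by omega) γ rfl)
        · rw [Finset.mul_sum]
          refine N.sum_mem (fun i _ => ?_)
          have h3 : (∏ l, (X l : MvPolynomial (Fin r) K) ^ (γ l)) * (C (A i j) * X i) =
              C (A i j) * ∏ l, (X l : MvPolynomial (Fin r) K) ^ (Function.update γ i (γ i + 1) l) := by
            rw [← Finset.mul_prod_erase _ _ (Finset.mem_univ i),
              ← Finset.mul_prod_erase (Finset.univ)
                (fun l => (X l : MvPolynomial (Fin r) K) ^ (Function.update γ i (γ i + 1) l))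
                (Finset.mem_univ i)]
            have h4 : ∏ l ∈ Finset.univ.erase i,
                (X l : MvPolynomial (Fin r) K) ^ (Function.update γ i (γ i + 1) l) =
                ∏ l ∈ Finset.univ.erase i, (X l : MvPolynomial (Fin r) K) ^ (γ l) := by
              refine Finset.prod_congr rfl (fun l hl => ?_)
              rw [Finset.mem_erase] at hl
              rw [Function.update_of_ne hl.1]
            rw [h4, Function.update_self, pow_succ]
            ring
          have h5 : ∑ l, Function.update γ i (γ i + 1) l = ∑ l, γ l + 1 := by
            rw [← Finset.add_sum_erase _ _ (Finset.mem_univ i),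
              ← Finset.add_sum_erase (Finset.univ) γ (Finset.mem_univ i)]
            have h4 : ∑ l ∈ Finset.univ.erase i, Function.update γ i (γ i + 1) l =
                ∑ l ∈ Finset.univ.erase i, γ l := by
              refine Finset.sum_congr rfl (fun l hl => ?_)
              rw [Finset.mem_erase] at hl
              rw [Function.update_of_ne hl.1]
            rw [h4, Function.update_self]
            ring
          rw [h3]
          exact N.smul_mem ⟨C (A i j), S₀.algebraMap_mem (A i j)⟩
            (ih _ (by rw [h5]; omega) _ rfl)
        · rw [mul_comm]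
          exact N.smul_mem ⟨C (b j), S₀.algebraMap_mem (b j)⟩ (ih _ (by omega) γ rfl)
  have htop : N = ⊤ := by
    rw [eq_top_iff]
    intro q hq0
    clear hq0
    induction q using MvPolynomial.induction_on' with
    | monomial β a =>
      have h1 : monomial β a = C a * ∏ j, (X j : MvPolynomial (Fin r) K) ^ (β j) := by
        rw [monomial_eq, Finsupp.prod_fintype]
        intro i; rw [pow_zero]
      rw [h1]
      exact N.smul_mem ⟨C a, S₀.algebraMap_mem a⟩ (key _ (fun j => β j) rfl)
    | add q q' hq hq' => exact N.add_mem hq hq'
  have hfin : Module.Finite S₀ (MvPolynomial (Fin r) K) :=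
    ⟨⟨(Set.finite_range _).toFinset, by rw [Set.Finite.coe_toFinset]; exact htop⟩⟩
  exact Algebra.IsIntegral.of_finite _ _

include hp in
theorem algebraicIndependent : AlgebraicIndependent K (f p A b) := by
  have := isIntegral_adjoin p hp A b
  have h1 : IsTranscendenceBasis K (f p A b) := by
    refine Algebra.IsAlgebraic.isTranscendenceBasis_of_lift_le_trdeg_of_finite K _ ?_
    rw [MvPolynomial.trdeg_of_isDomain]
    simp
  exact h1.1

include hp in
theorem exists_maximal : ∃ q : Ideal (MvPolynomial (Fin r) K), q.IsMaximal ∧ ∀ j, f p A b j ∈ q := by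
  have hai := algebraicIndependent p hp A b
  have := isIntegral_adjoin p hp A b
  let e := hai.aevalEquiv
  let ψ : Algebra.adjoin K (Set.range (f p A b)) →+* K :=
    ((aeval (fun _ => (0 : K)) : MvPolynomial (Fin r) K →ₐ[K] K).comp e.symm.toAlgHom).toRingHom
  let m : Ideal (Algebra.adjoin K (Set.range (f p A b))) := RingHom.ker ψ
  have hm : m.IsMaximal := by
    refine RingHom.ker_isMaximal_of_surjective _ ?_
    intro c
    refine ⟨algebraMap K _ c, ?_⟩
    exact ((aeval (fun _ => (0 : K)) : MvPolynomial (Fin r) K →ₐ[K] K).comp
      e.symm.toAlgHom).commutes c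
  obtain ⟨q, hq, hqm⟩ := Ideal.exists_ideal_over_maximal_of_isIntegral
    (S := MvPolynomial (Fin r) K) m (by
      have h0 : Function.Injective (algebraMap (Algebra.adjoin K (Set.range (f p A b)))
        (MvPolynomial (Fin r) K)) := Subtype.val_injective
      rw [(RingHom.injective_iff_ker_eq_bot _).mp h0]; exact bot_le)
  refine ⟨q, hq, fun j => ?_⟩
  have h1 : e (X j) ∈ Ideal.comap (algebraMap _ (MvPolynomial (Fin r) K)) q := by
    rw [hqm, RingHom.mem_ker]
    change aeval (fun _ => (0 : K)) (e.symm (e (X j))) = 0
    rw [AlgEquiv.symm_apply_apply, aeval_X]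
  have h2 : algebraMap _ (MvPolynomial (Fin r) K) (e (X j)) ∈ q := h1
  rw [AlgebraicIndependent.algebraMap_aevalEquiv, aeval_X] at h2
  exact h2

include hp in
/-- The system has a solution in a finite extension generated by the solution. -/
theorem exists_solution_field : ∃ (L : Type u) (_ : Field L) (_ : Algebra K L)
    (_ : FiniteDimensional K L) (z : Fin r → L), Algebra.adjoin K (Set.range z) = ⊤ ∧
      ∀ j, z j ^ p = ∑ i, algebraMap K L (A i j) * z i + algebraMap K L (b j) := by
  obtain ⟨q, hq, hfq⟩ := exists_maximal p hp A b
  let _ : Field (MvPolynomial (Fin r) K ⧸ q) := Ideal.Quotient.field q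
  have hft : Algebra.FiniteType K (MvPolynomial (Fin r) K ⧸ q) := inferInstance
  refine ⟨MvPolynomial (Fin r) K ⧸ q, inferInstance, inferInstance,
    finite_of_finite_type_of_isJacobsonRing K _, fun j => Ideal.Quotient.mk q (X j), ?_, ?_⟩
  · rw [eq_top_iff]
    intro x _
    obtain ⟨P, rfl⟩ := Ideal.Quotient.mk_surjective x
    have h1 : Ideal.Quotient.mk q P = aeval (fun j => Ideal.Quotient.mk q (X j)) P := by
      have h2 : (Ideal.Quotient.mkₐ K q) = aeval (fun j => Ideal.Quotient.mk q (X j)) := by
        apply MvPolynomial.algHom_ext
        intro j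
        rw [aeval_X]; rfl
      exact DFunLike.congr_fun h2 P
    rw [h1, Algebra.adjoin_range_eq_range_aeval]
    exact ⟨P, rfl⟩
  · intro j
    have h1 := Ideal.Quotient.eq_zero_iff_mem.mpr (hfq j)
    simp only [f, map_sub, map_pow, map_sum, map_mul] at h1
    have h2 : ∀ c : K, Ideal.Quotient.mk q (C c) = algebraMap K (MvPolynomial (Fin r) K ⧸ q) c :=
      fun c => rfl
    simp only [h2] at h1
    linear_combination h1

/-- Solutions over separably closed fields. -/
theorem exists_solution [IsSepClosed K] (hpp : p.Prime)
    (hchar : CharZero K ∨ ((p : K) = 0 ∧ IsUnit (Matrix.of A))) :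
    ∃ z : Fin r → K, ∀ j, z j ^ p = ∑ i, A i j * z i + b j := by
  classical
  obtain ⟨L, _, _, _, z, hz, hsys⟩ := exists_solution_field p hpp.two_le A b
  have hsep : Algebra.IsSeparable K L := by
    rcases hchar with h0 | ⟨hpK, hA⟩
    · infer_instance
    · have hun : Algebra.FormallyUnramified K L := by
        have hpL : (p : L) = 0 := by
          rw [← map_natCast (algebraMap K L), hpK, map_zero]
        have hD : ∀ i, KaehlerDifferential.D K L (z i) = 0 := by
          have h1 : ∀ j, ∑ i, A i j • KaehlerDifferential.D K L (z i) = 0 := by
            intro j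
            have h2 := congrArg (KaehlerDifferential.D K L) (hsys j)
            rw [Derivation.leibniz_pow, map_add, Derivation.map_algebraMap, add_zero, map_sum] at h2
            have h3 : (p • z j ^ (p - 1) • KaehlerDifferential.D K L (z j) :
                KaehlerDifferential K L) = 0 := by
              rw [← Nat.cast_smul_eq_nsmul L, hpL, zero_smul]
            rw [h3] at h2
            rw [h2]
            refine Finset.sum_congr rfl (fun i _ => ?_)
            rw [← Algebra.smul_def, Derivation.map_smul]
          obtain ⟨u, hu⟩ := hA
          intro l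
          have h4 : ∑ j, (↑u⁻¹ : Matrix (Fin r) (Fin r) K) j l •
              ∑ i, A i j • KaehlerDifferential.D K L (z i) = 0 := by
            simp only [h1, smul_zero, Finset.sum_const_zero]
          have h5 : ∑ j, (↑u⁻¹ : Matrix (Fin r) (Fin r) K) j l •
              ∑ i, A i j • KaehlerDifferential.D K L (z i) =
              ∑ i, ((u : Matrix (Fin r) (Fin r) K) * (↑u⁻¹ : Matrix (Fin r) (Fin r) K)) i l •
                KaehlerDifferential.D K L (z i) := by
            simp only [Finset.smul_sum]
            rw [Finset.sum_comm]
            refine Finset.sum_congr rfl (fun i _ => ?_)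
            rw [Matrix.mul_apply, Finset.sum_smul]
            refine Finset.sum_congr rfl (fun j _ => ?_)
            rw [smul_smul, mul_comm, hu]
            rfl
          rw [h5, Units.mul_inv] at h4
          simpa [Matrix.one_apply] using h4
        constructor
        have h6 : ∀ x : L, KaehlerDifferential.D K L x = 0 := by
          intro x
          have hx : x ∈ Algebra.adjoin K (Set.range z) := by rw [hz]; trivial
          induction hx using Algebra.adjoin_induction with
          | mem x hx => obtain ⟨i, rfl⟩ := hx; exact hD i
          | algebraMap c => exact Derivation.map_algebraMap _ c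
          | add x y _ _ hx hy => rw [map_add, hx, hy, add_zero]
          | mul x y _ _ hx hy => rw [Derivation.leibniz, hx, hy, smul_zero, smul_zero, add_zero]
        have h7 : (⊤ : Submodule L (KaehlerDifferential K L)) = ⊥ := by
          rw [← KaehlerDifferential.span_range_derivation, Submodule.span_eq_bot]
          rintro _ ⟨x, rfl⟩
          exact h6 x
        exact (Submodule.subsingleton_iff L).mp
          (subsingleton_of_bot_eq_top h7.symm)
      exact Algebra.FormallyUnramified.isSeparable K L
  have hsurj := IsSepClosed.algebraMap_surjective K L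
  choose w hw using fun i => hsurj (z i)
  refine ⟨w, fun j => ?_⟩
  apply (algebraMap K L).injective
  rw [map_pow, hw, hsys, map_add, map_sum]
  congr 1
  refine Finset.sum_congr rfl (fun i _ => ?_)
  rw [map_mul, hw]

end field

section valuation

variable {R : Type u} [CommRing R] [IsDomain R] [ValuationRing R] {K : Type u} [Field K]
  [Algebra R K] [IsFractionRing R K] [IsSepClosed K]

/-- A separably closed field is infinite. -/
theorem infinite_of_isSepClosed (k : Type*) [Field k] [IsSepClosed k] : Infinite k := by
  by_contra hcon
  rw [not_infinite_iff_finite] at hcon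
  have h1 : IsAlgClosed k := inferInstance
  exact not_finite k

/-- A domain with separably closed fraction field is infinite. -/
theorem infinite_of_isFractionRing (R K : Type*) [CommRing R] [IsDomain R] [Field K] [Algebra R K]
    [IsFractionRing R K] [IsSepClosed K] : Infinite R := by
  have := infinite_of_isSepClosed K
  by_contra hfin
  rw [not_infinite_iff_finite] at hfin
  have h1 := (IsFractionRing.surjective_iff_isField (R := R) (K := K)).mpr
    (Finite.isField_of_domain R)
  have : Finite K := Finite.of_surjective _ h1
  exact not_finite K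

/-- Solutions of monic systems over the fraction field of a valuation ring are integral. -/
theorem mem_of_solution {R : Type u} [CommRing R] [IsDomain R] [ValuationRing R] {K : Type u}
    [Field K] [Algebra R K] [IsFractionRing R K] {p : ℕ} (hp : 2 ≤ p) {r : ℕ}
    (A : Fin r → Fin r → R) (b : Fin r → R) (z : Fin r → K)
    (hz : ∀ j, z j ^ p = ∑ i, algebraMap R K (A i j) * z i + algebraMap R K (b j)) :
    ∃ w : Fin r → R, ∀ j, algebraMap R K (w j) = z j := by
  classical
  rcases Nat.eq_zero_or_pos r with rfl | hr
  · exact ⟨fun j => j.elim0, fun j => j.elim0⟩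
  let v := ValuationRing.valuation R K
  have hne : (Finset.univ : Finset (Fin r)).Nonempty := ⟨⟨0, hr⟩, Finset.mem_univ _⟩
  obtain ⟨j, _, hj⟩ := Finset.exists_max_image Finset.univ (fun j => v (z j)) hne
  have hle : v (z j) ≤ 1 := by
    by_contra hlt
    push Not at hlt
    have h1 : v (z j) ^ p ≤ v (z j) := by
      rw [← map_pow, hz j]
      refine (Valuation.map_add _ _ _).trans (max_le ?_ ?_)
      · refine Valuation.map_sum_le _ (fun i hi => ?_)
        rw [map_mul]
        calc v (algebraMap R K (A i j)) * v (z i) ≤ 1 * v (z j) :=
              mul_le_mul' ((ValuationRing.mem_integer_iff R K _).mpr ⟨_, rfl⟩) (hj i hi)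
          _ = v (z j) := one_mul _
      · exact ((ValuationRing.mem_integer_iff R K _).mpr ⟨_, rfl⟩).trans hlt.le
    have h2 : v (z j) < v (z j) ^ p := by
      calc v (z j) = v (z j) ^ 1 := (pow_one _).symm
        _ < v (z j) ^ p := pow_lt_pow_right₀ hlt (by omega)
    exact absurd h1 (not_le.mpr h2)
  have hall : ∀ i, z i ∈ v.integer := fun i => (hj i (Finset.mem_univ i)).trans hle
  choose w hw using fun i => (ValuationRing.mem_integer_iff R K _).mp (hall i)
  exact ⟨w, hw⟩

/-- Approximate solutions over valuation rings with separably closed fraction field. -/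
theorem exists_solution_approx {p : ℕ} (hp : p.Prime) (hchar : CharZero K ∨ (p : K) = 0)
    {r : ℕ} (A : Fin r → Fin r → R) (b : Fin r → R) (c : R) (hc : c ≠ 0) :
    ∃ z : Fin r → R, ∀ j, c ∣ z j ^ p - ∑ i, A i j * z i - b j := by
  classical
  have hinj := IsFractionRing.injective R K
  rcases hchar with h0 | hpK
  · obtain ⟨z, hz⟩ := exists_solution p (fun i j => algebraMap R K (A i j))
      (fun j => algebraMap R K (b j)) hp (Or.inl h0)
    obtain ⟨w, hw⟩ := mem_of_solution hp.two_le A b z hz
    refine ⟨w, fun j => ?_⟩
    have h1 : w j ^ p - ∑ i, A i j * w i - b j = 0 := by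
      apply hinj
      simp only [map_sub, map_pow, map_sum, map_mul, map_zero, hw, hz]
      ring
    rw [h1]
    exact dvd_zero c
  · -- perturb
    have hRinf : Infinite R := infinite_of_isFractionRing R K
    let M : Matrix (Fin r) (Fin r) K := Matrix.of (fun i j => algebraMap R K (A i j))
    have hfin : {t : K | (-M).charpoly.eval t = 0}.Finite := by
      refine ((-M).charpoly.roots.toFinset.finite_toSet).subset ?_
      intro t ht
      rw [Finset.mem_coe, Multiset.mem_toFinset,
        Polynomial.mem_roots (Matrix.charpoly_monic _).ne_zero]
      exact ht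
    obtain ⟨t, ht⟩ : ∃ t : R, algebraMap R K (c * t) ∉ {t : K | (-M).charpoly.eval t = 0} := by
      by_contra hall
      push Not at hall
      have h1 : (Set.range (fun t : R => algebraMap R K (c * t))).Finite :=
        hfin.subset (by rintro _ ⟨t, rfl⟩; exact hall t)
      refine Set.infinite_range_of_injective ?_ h1
      intro s t hst
      exact mul_left_cancel₀ hc (hinj hst)
    let A' : Fin r → Fin r → R := fun i j => A i j + if i = j then c * t else 0
    have hunit : IsUnit (Matrix.of (fun i j => algebraMap R K (A' i j))) := by
      rw [Matrix.isUnit_iff_isUnit_det, isUnit_iff_ne_zero]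
      intro h0
      apply ht
      change (-M).charpoly.eval _ = 0
      rw [Matrix.eval_charpoly, ← h0]
      congr 1
      ext i j
      simp only [Matrix.sub_apply, Matrix.neg_apply, Matrix.of_apply, M, A', map_add,
        sub_neg_eq_add]
      by_cases hij : i = j
      · subst hij
        simp [Matrix.scalar_apply, add_comm]
      · simp [hij, Matrix.scalar_apply]
    obtain ⟨z, hz⟩ := exists_solution p (fun i j => algebraMap R K (A' i j))
      (fun j => algebraMap R K (b j)) hp (Or.inr ⟨hpK, hunit⟩)
    obtain ⟨w, hw⟩ := mem_of_solution hp.two_le A' b z hz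
    refine ⟨w, fun j => ?_⟩
    have h1 : w j ^ p - ∑ i, A i j * w i - b j = c * (t * w j) := by
      have h2 : w j ^ p = ∑ i, A' i j * w i + b j := by
        apply hinj
        simp only [map_add, map_pow, map_sum, map_mul, hw, hz]
      rw [h2]
      simp only [A', add_mul, Finset.sum_add_distrib]
      simp only [ite_mul, zero_mul, Finset.sum_ite_eq', Finset.mem_univ, if_true]
      ring
    rw [h1]
    exact dvd_mul_right _ _

end valuation

end K26.SemiLin
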