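import Groth.Agent.FlatMor.K26.StabDefs
import Groth.Agent.FlatMor.K26.SemiLin
import Mathlib.Algebra.CharP.Frobenius
import Mathlib.Algebra.CharP.Lemmas
import Mathlib.RingTheory.FiniteType
import Mathlib.RingTheory.Ideal.Quotient.Operations

/-!
The contraction lemma for finitely generated algebras over semiperfect rings, and the normal
form for elements `b / c ^ p` modulo elements `η ^ p - η`.
-/

set_option autoImplicit false
universe u

namespace K26.Stab

section Contr

variable {Λ S : Type*} [CommRing Λ] [CommRing S] [Algebra Λ S] {r : ℕ}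

/-- The span of the monomials in `y` with all exponents at most `n`. -/
def boxSpan (Λ : Type*) {S : Type*} [CommRing Λ] [CommRing S] [Algebra Λ S] {r : ℕ}
    (y : Fin r → S) (n : ℕ) : Submodule Λ S :=
  Submodule.span Λ (Set.range (fun β : Fin r → Fin (n + 1) => ∏ i, y i ^ (β i : ℕ)))

theorem mono_mem_boxSpan (y : Fin r → S) {n : ℕ} (β : Fin r → ℕ) (hβ : ∀ i, β i ≤ n) :
    ∏ i, y i ^ (β i) ∈ boxSpan Λ y n :=
  Submodule.subset_span ⟨fun i => ⟨β i, Nat.lt_succ_of_le (hβ i)⟩, rfl⟩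

theorem boxSpan_mono (y : Fin r → S) {m n : ℕ} (h : m ≤ n) : boxSpan Λ y m ≤ boxSpan Λ y n := by
  rw [boxSpan, Submodule.span_le]
  rintro _ ⟨β, rfl⟩
  exact mono_mem_boxSpan y (fun i => (β i : ℕ)) (fun i => (Nat.le_of_lt_succ (β i).2).trans h)

theorem boxSpan_mul (y : Fin r → S) {m n : ℕ} {a b : S} (ha : a ∈ boxSpan Λ y m)
    (hb : b ∈ boxSpan Λ y n) : a * b ∈ boxSpan Λ y (m + n) := by
  have h1 : a * b ∈ boxSpan Λ y m * boxSpan Λ y n := Submodule.mul_mem_mul ha hb
  rw [boxSpan, boxSpan, Submodule.span_mul_span] at h1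
  refine (Submodule.span_le.mpr ?_) h1
  rintro _ ⟨_, ⟨β, rfl⟩, _, ⟨γ, rfl⟩, rfl⟩
  have h2 : (∏ i, y i ^ (β i : ℕ)) * (∏ i, y i ^ (γ i : ℕ)) = ∏ i, y i ^ ((β i : ℕ) + (γ i : ℕ)) := by
    rw [← Finset.prod_mul_distrib]
    exact Finset.prod_congr rfl (fun i _ => (pow_add _ _ _).symm)
  change (∏ i, y i ^ (β i : ℕ)) * (∏ i, y i ^ (γ i : ℕ)) ∈ _
  rw [h2]
  exact mono_mem_boxSpan y _ (fun i => add_le_add (Nat.le_of_lt_succ (β i).2)
    (Nat.le_of_lt_succ (γ i).2))

theorem exists_mem_boxSpan (f : MvPolynomial (Fin r) Λ →ₐ[Λ] S) (hf : Function.Surjective f) (s : S) :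
    ∃ n, s ∈ boxSpan Λ (fun i => f (MvPolynomial.X i)) n := by
  obtain ⟨P, rfl⟩ := hf s
  induction P using MvPolynomial.induction_on' with
  | monomial β a =>
    refine ⟨∑ i, β i, ?_⟩
    have h1 : f (MvPolynomial.monomial β a) = a • ∏ i, f (MvPolynomial.X i) ^ (β i) := by
      rw [MvPolynomial.monomial_eq, map_mul, Finsupp.prod_fintype _ _ (fun i => pow_zero _),
        map_prod, ← MvPolynomial.algebraMap_eq, AlgHom.commutes, Algebra.smul_def]
      simp
    rw [h1]
    exact Submodule.smul_mem _ _ (mono_mem_boxSpan _ _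
      (fun i => Finset.single_le_sum (f := fun i => β i) (fun _ _ => Nat.zero_le _)
        (Finset.mem_univ i)))
  | add P Q hP hQ =>
    obtain ⟨m, hm⟩ := hP
    obtain ⟨n, hn⟩ := hQ
    refine ⟨max m n, ?_⟩
    rw [map_add]
    exact Submodule.add_mem _ (boxSpan_mono _ (le_max_left _ _) hm)
      (boxSpan_mono _ (le_max_right _ _) hn)

theorem exists_boxSpan_family (f : MvPolynomial (Fin r) Λ →ₐ[Λ] S) (hf : Function.Surjective f)
    {ι : Type*} [Fintype ι] (s : ι → S) :
    ∃ n, ∀ i, s i ∈ boxSpan Λ (fun i => f (MvPolynomial.X i)) n := by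
  choose n hn using fun i => exists_mem_boxSpan f hf (s i)
  exact ⟨∑ i, n i, fun i => boxSpan_mono _ (Finset.single_le_sum (f := n)
    (fun _ _ => Nat.zero_le _) (Finset.mem_univ i)) (hn i)⟩

/-- Contraction lemma: if every element
of the finitely generated algebra `S` is of the form `∑ θ_j h_j ^ p`, then any finite set is contained in a
finitely generated `Λ`-submodule whose generators have such a decomposition inside the submodule. -/
theorem exists_stable_span {p : ℕ} (hp : p.Prime) [Algebra.FiniteType Λ S]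
    {J : Type*} [Fintype J] (θ : J → S) (hdec : ∀ b : S, ∃ h : J → S, b = ∑ j, θ j * h j ^ p)
    (F : Finset S) :
    ∃ (n : ℕ) (m : Fin n → S), (∀ b ∈ F, b ∈ Submodule.span Λ (Set.range m)) ∧
      ∀ l, ∃ h : J → S, m l = ∑ j, θ j * h j ^ p ∧ ∀ j, h j ∈ Submodule.span Λ (Set.range m) := by
  classical
  obtain ⟨r, f, hf⟩ := Algebra.FiniteType.iff_quotient_mvPolynomial''.mp
    (inferInstance : Algebra.FiniteType Λ S)
  set y : Fin r → S := fun i => f (MvPolynomial.X i) with hy
  -- decomposition of the small monomials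
  choose hh hhs using fun α : Fin r → Fin p => hdec (∏ i, y i ^ (α i : ℕ))
  obtain ⟨n₀, hn₀⟩ := exists_boxSpan_family f hf (fun t : (Fin r → Fin p) × J => hh t.1 t.2)
  obtain ⟨n₁, hn₁⟩ := exists_boxSpan_family f hf (fun b : F => (b : S))
  set n := 2 * n₀ + n₁ with hn
  have hpn : n / p + n₀ ≤ n := by
    have h1 : n / p ≤ n / 2 := Nat.div_le_div_left hp.two_le (by norm_num)
    omega
  let e := Fintype.equivFin (Fin r → Fin (n + 1))
  let m : Fin (Fintype.card (Fin r → Fin (n + 1))) → S := fun l => ∏ i, y i ^ ((e.symm l) i : ℕ)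
  have hspan : Submodule.span Λ (Set.range m) = boxSpan Λ y n := by
    rw [boxSpan]
    congr 1
    ext x
    constructor
    · rintro ⟨l, rfl⟩; exact ⟨e.symm l, rfl⟩
    · rintro ⟨β, rfl⟩; exact ⟨e β, by simp [m]⟩
  refine ⟨_, m, ?_, ?_⟩
  · intro b hb
    rw [hspan]
    exact boxSpan_mono y (by omega) (hn₁ ⟨b, hb⟩)
  · intro l
    rw [hspan]
    set β := e.symm l with hβ
    -- `β = p γ + α`
    let α : Fin r → Fin p := fun i => ⟨(β i : ℕ) % p, Nat.mod_lt _ hp.pos⟩
    let γ : Fin r → ℕ := fun i => (β i : ℕ) / p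
    refine ⟨fun j => (∏ i, y i ^ (γ i)) * hh α j, ?_, ?_⟩
    · have h1 : m l = (∏ i, y i ^ (γ i)) ^ p * ∏ i, y i ^ (α i : ℕ) := by
        rw [← Finset.prod_pow, ← Finset.prod_mul_distrib]
        refine Finset.prod_congr rfl (fun i _ => ?_)
        rw [← pow_mul, ← pow_add]
        congr 1
        simp only [γ, α]
        rw [mul_comm]
        exact (Nat.div_add_mod _ _).symm
      rw [h1, hhs α, Finset.mul_sum]
      refine Finset.sum_congr rfl (fun j _ => ?_)
      rw [mul_pow]; ring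
    · intro j
      refine boxSpan_mono y hpn (boxSpan_mul y (mono_mem_boxSpan y γ (fun i => ?_)) (hn₀ (α, j)))
      exact Nat.div_le_div_right (Nat.le_of_lt_succ (β i).2)

end Contr

section Ring

variable {R : Type u} [CommRing R] [IsDomain R] [ValuationRing R] [IsSepClosed (FractionRing R)]

/-- Since `p` is not a unit in `R`, the fraction field has characteristic zero or `p`. -/
theorem char_or {R : Type*} [CommRing R] [IsDomain R] [IsLocalRing R] {p : ℕ} (hp : p.Prime)
    (hpm : ¬ IsUnit (p : R)) : CharZero (FractionRing R) ∨ (p : FractionRing R) = 0 := by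
  obtain ⟨q, hq⟩ := CharP.exists (FractionRing R)
  rcases CharP.char_is_prime_or_zero (FractionRing R) q with hq' | rfl
  · right
    have hqR : (q : R) = 0 := by
      apply IsFractionRing.injective R (FractionRing R)
      rw [map_natCast, map_zero]
      exact CharP.cast_eq_zero _ _
    by_cases hpq : p = q
    · subst hpq; exact CharP.cast_eq_zero _ _
    · exfalso
      apply hpm
      have h1 : IsCoprime (p : ℤ) (q : ℤ) :=
        Nat.isCoprime_iff_coprime.mpr ((Nat.coprime_primes hp hq').mpr hpq)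
      obtain ⟨a, b, hab⟩ := h1
      have h2 : (a : R) * (p : R) + (b : R) * (q : R) = 1 := by exact_mod_cast congrArg (Int.cast (R := R)) hab
      rw [hqR, mul_zero, add_zero] at h2
      exact IsUnit.of_mul_eq_one_right _ h2
  · left
    exact CharP.charP_to_charZero _

/-- Normal form in a finitely generated algebra, auxiliary version. -/
theorem exists_as_reduction_aux {D : Type*} [CommRing D] [Algebra R D] {S : Type*}
    [CommRing S] [Nontrivial S] [Algebra R S] [Algebra.FiniteType R S] (π : D →ₐ[R] S)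
    (hπ : Function.Surjective π) {p : ℕ}
    (hp : p.Prime) (hpm : ¬ IsUnit (p : R)) {γ : R} (hγ : γ ≠ 0) (hγp : γ ^ (p * p) ∣ (p : R))
    (hmk : ∀ x : D, π x = 0 ↔ ∃ w, x = algebraMap R D γ ^ (p * p) * w)
    {J : Type*} [Fintype J] [DecidableEq J] (θ : J → D) (j₀ : J) (h1 : θ j₀ = 1)
    (hdec : ∀ b : D, ∃ (h : J → D) (t : D),
      b = ∑ j, θ j * h j ^ p + algebraMap R D γ ^ (p * p) * t) (b : D) :
    ∃ (e : D) (g : J → D) (w : D), b - e ^ p + algebraMap R D γ ^ (p * (p - 1)) * e =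
      algebraMap R D γ ^ (p * p) * w + ∑ j ∈ Finset.univ.erase j₀, θ j * g j ^ p := by
  classical
  have : Fact p.Prime := ⟨hp⟩
  have hπδ : π (algebraMap R D γ ^ (p * p)) = 0 := (hmk _).mpr ⟨1, (mul_one _).symm⟩
  have hpS : (p : S) = 0 := by
    obtain ⟨t, ht⟩ := hγp
    have h2 : (p : D) = algebraMap R D γ ^ (p * p) * algebraMap R D t := by
      rw [← map_pow, ← map_mul, ← ht, map_natCast]
    have h3 := (hmk (p : D)).mpr ⟨_, h2⟩
    rwa [map_natCast] at h3
  have hchar : CharP S p := (CharP.charP_iff_prime_eq_zero hp).mpr hpS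
  have hdecS : ∀ s : S, ∃ h : J → S, s = ∑ j, π (θ j) * h j ^ p := by
    intro s
    obtain ⟨x, rfl⟩ := hπ s
    obtain ⟨h, t, ht⟩ := hdec x
    refine ⟨fun j => π (h j), ?_⟩
    conv_lhs => rw [ht]
    rw [map_add, map_mul, hπδ, zero_mul, add_zero, map_sum]
    simp only [map_mul, map_pow]
  obtain ⟨bb, t, hbb⟩ := hdec b
  obtain ⟨n, m, hF, hm⟩ := exists_stable_span (Λ := R) hp (fun j => π (θ j)) hdecS {π (bb j₀)}
  choose h hmh hh using hm
  have hq := fun l => (Submodule.mem_span_range_iff_exists_fun R).mp (hh l j₀)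
  choose q hq using hq
  obtain ⟨β, hβ⟩ := (Submodule.mem_span_range_iff_exists_fun R).mp
    (hF _ (Finset.mem_singleton_self _))
  obtain ⟨z, hz⟩ := K26.SemiLin.exists_solution_approx (K := FractionRing R) hp (char_or hp hpm)
    (fun l i => γ ^ (p - 1) * q l i) β (γ ^ p) (pow_ne_zero _ hγ)
  choose τ hτ using hz
  choose m' hm' using fun l => hπ (m l)
  choose h' hh' using fun l j => hπ (h l j)
  -- the elements
  set a : R →+* S := algebraMap R S with ha
  have haπ : ∀ r, π (algebraMap R D r) = a r := fun r => π.commutes r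
  let e : D := ∑ l, algebraMap R D (z l) ^ p * m' l
  let ee : J → D := fun j => ∑ l, algebraMap R D (z l) * h' l j
  have he : π e = ∑ j, π (θ j) * π (ee j) ^ p := by
    have h2 : ∀ j, π (ee j) ^ p = ∑ l, a (z l) ^ p * h l j ^ p := by
      intro j
      simp only [ee, map_sum, map_mul, hh', haπ]
      rw [sum_pow_char]
      exact Finset.sum_congr rfl (fun l _ => mul_pow _ _ _)
    simp only [h2, Finset.mul_sum]
    rw [Finset.sum_comm]
    simp only [e, map_sum, map_mul, map_pow, hm', haπ]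
    refine Finset.sum_congr rfl (fun l _ => ?_)
    rw [hmh l, Finset.mul_sum]
    refine Finset.sum_congr rfl (fun j _ => ?_)
    ring
  have hkey : π (bb j₀) + a γ ^ (p - 1) * π (ee j₀) - π e = - a γ ^ p * ∑ i, a (τ i) * m i := by
    have h2 : π (ee j₀) = ∑ i, (∑ l, a (z l) * a (q l i)) * m i := by
      simp only [ee, map_sum, map_mul, hh', haπ]
      simp only [Finset.sum_mul]
      rw [Finset.sum_comm]
      refine Finset.sum_congr rfl (fun l _ => ?_)
      rw [← hq l, Finset.mul_sum]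
      refine Finset.sum_congr rfl (fun i _ => ?_)
      rw [Algebra.smul_def]
      change a (z l) * (a (q l i) * m i) = _
      ring
    have h3 : π e = ∑ i, a (z i) ^ p * m i := by
      simp only [e, map_sum, map_mul, map_pow, hm', haπ]
    have h4 : ∀ i, a (z i) ^ p = a γ ^ p * a (τ i) + a γ ^ (p - 1) * (∑ l, a (z l) * a (q l i)) +
        a (β i) := by
      intro i
      have h5 := congrArg a (hτ i)
      simp only [map_sub, map_mul, map_pow, map_sum] at h5
      have h6 : ∑ l, a γ ^ (p - 1) * a (q l i) * a (z l) =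
          a γ ^ (p - 1) * ∑ l, a (z l) * a (q l i) := by
        rw [Finset.mul_sum]
        exact Finset.sum_congr rfl (fun l _ => by ring)
      rw [h6] at h5
      linear_combination h5
    have h7 : π (bb j₀) = ∑ i, a (β i) * m i := by
      rw [← hβ]
      exact Finset.sum_congr rfl (fun i _ => Algebra.smul_def _ _)
    rw [h2, h3, h7, Finset.mul_sum, Finset.mul_sum, ← Finset.sum_add_distrib,
      ← Finset.sum_sub_distrib]
    refine Finset.sum_congr rfl (fun i _ => ?_)
    rw [h4 i]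
    ring
  have haδ : a γ ^ (p * p) = 0 := by
    rw [← haπ, ← map_pow]; exact hπδ
  have hfinal : π (b - e ^ p + algebraMap R D γ ^ (p * (p - 1)) * e -
      ∑ j ∈ Finset.univ.erase j₀, θ j * (bb j + algebraMap R D γ ^ (p - 1) * ee j) ^ p) = 0 := by
    have h2 : π b = ∑ j, π (θ j) * π (bb j) ^ p := by
      conv_lhs => rw [hbb]
      rw [map_add, map_mul, hπδ, zero_mul, add_zero, map_sum]
      simp only [map_mul, map_pow]
    have h3 : a γ ^ (p * (p - 1)) * π e = ∑ j, π (θ j) * (a γ ^ (p - 1) * π (ee j)) ^ p := by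
      rw [he, Finset.mul_sum]
      refine Finset.sum_congr rfl (fun j _ => ?_)
      rw [mul_pow, ← pow_mul, mul_comm (p - 1) p]
      ring
    simp only [map_sub, map_add, map_mul, map_pow, map_sum, haπ]
    rw [h3, h2]
    simp only [add_pow_char, mul_add, Finset.sum_add_distrib]
    rw [← Finset.add_sum_erase _ (fun j => π (θ j) * π (bb j) ^ p) (Finset.mem_univ j₀),
      ← Finset.add_sum_erase _ (fun j => π (θ j) * (a γ ^ (p - 1) * π (ee j)) ^ p)
        (Finset.mem_univ j₀)]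
    have h4 : π (bb j₀) ^ p + (a γ ^ (p - 1) * π (ee j₀)) ^ p - π e ^ p = 0 := by
      rw [← add_pow_char, ← sub_pow_char, hkey, mul_pow, neg_pow, ← pow_mul, haδ]
      ring
    rw [h1, map_one]
    linear_combination h4
  obtain ⟨w, hw⟩ := (hmk _).mp hfinal
  refine ⟨e, fun j => bb j + algebraMap R D γ ^ (p - 1) * ee j, w, ?_⟩
  linear_combination hw

/-- Normal form in a finitely generated algebra. -/
theorem exists_as_reduction {D : Type*} [CommRing D] [Algebra R D] [Algebra.FiniteType R D] {p : ℕ}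
    (hp : p.Prime) (hpm : ¬ IsUnit (p : R)) {γ : R} (hγ : γ ≠ 0) (hγp : γ ^ (p * p) ∣ (p : R))
    {J : Type*} [Fintype J] [DecidableEq J] (θ : J → D) (j₀ : J) (h1 : θ j₀ = 1)
    (hdec : ∀ b : D, ∃ (h : J → D) (t : D),
      b = ∑ j, θ j * h j ^ p + algebraMap R D γ ^ (p * p) * t) (b : D) :
    ∃ (e : D) (g : J → D) (w : D), b - e ^ p + algebraMap R D γ ^ (p * (p - 1)) * e =
      algebraMap R D γ ^ (p * p) * w + ∑ j ∈ Finset.univ.erase j₀, θ j * g j ^ p := by
  classical
  let I : Ideal D := Ideal.span {algebraMap R D γ ^ (p * p)}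
  have hmk : ∀ x : D, Ideal.Quotient.mkₐ R I x = 0 ↔ ∃ w, x = algebraMap R D γ ^ (p * p) * w := by
    intro x
    rw [Ideal.Quotient.mkₐ_eq_mk, Ideal.Quotient.eq_zero_iff_mem, Ideal.mem_span_singleton]
    exact Iff.rfl
  rcases subsingleton_or_nontrivial (D ⧸ I) with hS | hS
  · obtain ⟨w, hw⟩ := (hmk (b - 0 ^ p + algebraMap R D γ ^ (p * (p - 1)) * 0)).mp
      (Subsingleton.elim _ _)
    refine ⟨0, 0, w, ?_⟩
    rw [hw]
    simp [hp.ne_zero]
  have hft : Algebra.FiniteType R (D ⧸ I) :=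
    Algebra.FiniteType.of_surjective (Ideal.Quotient.mkₐ R I) (Ideal.Quotient.mkₐ_surjective R I)
  exact exists_as_reduction_aux (Ideal.Quotient.mkₐ R I) (Ideal.Quotient.mkₐ_surjective R I) hp hpm
    hγ hγp hmk θ j₀ h1 hdec b

end Ring

section NormalForm

variable {R : Type u} [CommRing R] [IsDomain R] [ValuationRing R] [IsSepClosed (FractionRing R)]
  {N : Type u} [Field N] [Algebra R N] {Γ₀ : Type*} [LinearOrderedCommGroupWithZero Γ₀]
  {v : Valuation N Γ₀}

omit [IsSepClosed (FractionRing R)] in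
theorem Base₀.lt_natCast (hB : Base₀ R v) {p : ℕ} (hpm : ¬ IsUnit (p : R)) : v (p : N) < 1 := by
  have h1 := hB.lt (p : R) hpm
  rwa [map_natCast] at h1

omit [IsSepClosed (FractionRing R)] in
theorem Base₀.ne_zero (hB : Base₀ R v) {r : R} (hr : r ≠ 0) : algebraMap R N r ≠ 0 :=
  (map_ne_zero_iff _ hB.inj).mpr hr

omit [IsSepClosed (FractionRing R)] in
theorem Base₀.dvd_of_lt (hB : Base₀ R v) {r s : R} (h : v (algebraMap R N s) < v (algebraMap R N r)) :
    ∃ t, ¬ IsUnit t ∧ s = t * r := by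
  rcases ValuationRing.dvd_total r s with ⟨t, ht⟩ | ⟨t, ht⟩
  · refine ⟨t, fun hu => ?_, by rw [ht, mul_comm]⟩
    rw [ht, map_mul, map_mul, hB.unit hu, mul_one] at h
    exact lt_irrefl _ h
  · exfalso
    rw [ht, map_mul, map_mul] at h
    exact absurd (mul_le_mul' le_rfl (hB.le t)) (not_le.mpr (by simpa using h))

omit [IsSepClosed (FractionRing R)] in
theorem Base₀.dvd_of_le (hB : Base₀ R v) {r s : R} (h : v (algebraMap R N s) ≤ v (algebraMap R N r)) :
    r ∣ s := by
  rcases ValuationRing.dvd_total r s with h1 | ⟨t, ht⟩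
  · exact h1
  · rcases lt_or_eq_of_le h with h2 | h2
    · obtain ⟨t, -, ht⟩ := hB.dvd_of_lt h2
      exact ⟨t, by rw [ht, mul_comm]⟩
    · by_cases hs : s = 0
      · subst hs; exact dvd_zero _
      · have htu : IsUnit t := by
          by_contra hnu
          have h3 := hB.lt t hnu
          rw [ht, map_mul, map_mul] at h2
          have h4 : 0 < v (algebraMap R N s) := zero_lt_iff.mpr ((v.ne_zero_iff).mpr (hB.ne_zero hs))
          have h5 := mul_lt_mul_of_pos_left h3 h4
          rw [mul_one, ← h2] at h5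
          exact lt_irrefl _ h5
        obtain ⟨u, rfl⟩ := htu
        exact ⟨(↑u⁻¹ : R), by rw [ht, mul_assoc, Units.mul_inv, mul_one]⟩

omit [IsDomain R] [ValuationRing R] [IsSepClosed (FractionRing R)] in
theorem neg_pow_add (hpv : ∀ p : ℕ, p.Prime → ¬ IsUnit (p : R) → v (p : N) < 1) {p : ℕ} (hp : p.Prime)
    (hpm : ¬ IsUnit (p : R)) {h : N} (hh : v h ≤ 1) : v ((-h) ^ p + h ^ p) < 1 := by
  rcases hp.eq_two_or_odd' with rfl | hodd
  · have h1 : (-h) ^ 2 + h ^ 2 = ((2 : ℕ) : N) * h ^ 2 := by push_cast; ring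
    rw [h1, map_mul, map_pow]
    calc v ((2 : ℕ) : N) * v h ^ 2 ≤ v ((2 : ℕ) : N) * 1 := mul_le_mul' le_rfl (pow_le_one₀ zero_le hh)
      _ < 1 := by rw [mul_one]; exact hpv 2 hp hpm
  · rw [hodd.neg_pow, neg_add_cancel, map_zero]
    exact zero_lt_one

/-- Non-`p`-th powers from families. -/
theorem Fam.np (hB : Base₀ R v) {p : ℕ} (hp : p.Prime) (hpm : ¬ IsUnit (p : R))
    {F : Subfield N} {J : Type} [Fintype J] {θ : J → N} {j₀ : J} (hF : Fam R v p F θ j₀)
    [DecidableEq J] (u : J → N) (hu : ∀ j, u j ∈ F) (hvu : ∀ j ≠ j₀, v (u j) ≤ 1) {j₁ : J}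
    (hj₁ : j₁ ≠ j₀) (hvj₁ : v (u j₁) = 1) {ε : N} (hε : v ε < 1) (hεF : ε ∈ F) :
    NP v p F (∑ j ∈ Finset.univ.erase j₀, θ j * u j ^ p + ε) := by
  refine ⟨?_, ?_, ?_⟩
  · exact F.add_mem (F.sum_mem (fun j _ => F.mul_mem (hF.mem j) (F.pow_mem (hu j) p))) hεF
  · refine (v.map_add _ _).trans (max_le (v.map_sum_le (fun j hj => ?_)) hε.le)
    rw [map_mul, map_pow]
    exact mul_le_one' (hF.le j) (pow_le_one₀ zero_le (hvu j (Finset.ne_of_mem_erase hj)))
  · intro h hh hvh hlt
    let h' : J → N := fun j => if j = j₀ then -h else u j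
    have h1 : ∑ j, θ j * h' j ^ p = (∑ j ∈ Finset.univ.erase j₀, θ j * u j ^ p + ε - h ^ p) - ε +
        ((-h) ^ p + h ^ p) := by
      rw [← Finset.add_sum_erase _ _ (Finset.mem_univ j₀)]
      have h2 : ∑ j ∈ Finset.univ.erase j₀, θ j * h' j ^ p =
          ∑ j ∈ Finset.univ.erase j₀, θ j * u j ^ p :=
        Finset.sum_congr rfl (fun j hj => by simp only [h', if_neg (Finset.ne_of_mem_erase hj)])
      rw [h2, hF.one]
      simp only [h', if_true]
      ring
    have h3 : v (∑ j, θ j * h' j ^ p) < 1 := by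
      rw [h1]
      refine lt_of_le_of_lt (v.map_add _ _) (max_lt (lt_of_le_of_lt (v.map_sub _ _)
        (max_lt hlt hε)) (neg_pow_add (R := R) (fun p _ hpm => hB.lt_natCast hpm) hp hpm hvh))
    have h4 := hF.indep h' (fun j => by
      simp only [h']; split_ifs
      · exact F.neg_mem hh
      · exact hu j) (fun j => by
      simp only [h']; split_ifs with hj
      · rw [v.map_neg]; exact hvh
      · exact hvu j hj) h3 j₁
    simp only [h', if_neg hj₁, hvj₁] at h4
    exact lt_irrefl _ h4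

/-- Normal form of `b / c ^ p` modulo `η ^ p - η`. -/
theorem lemmaN (hB : Base R v) {p : ℕ} (hp : p.Prime) (hpm : ¬ IsUnit (p : R))
    {F : Subfield N} (hF : Good R v p F) {γ : R} (hγ : γ ≠ 0) (hγp : γ ^ (p * p) ∣ (p : R))
    {b : N} (hb : b ∈ F) (hvb : v b ≤ 1) :
    ∃ e ∈ F, v e ≤ 1 ∧
      ((∃ w ∈ F, v w ≤ 1 ∧ b - e ^ p + algebraMap R N γ ^ (p * (p - 1)) * e =
          algebraMap R N γ ^ (p * p) * w) ∨
       (∃ γ' s : R, ¬ IsUnit γ' ∧ γ' ≠ 0 ∧ γ' * s = γ ^ p ∧ ∃ g, NP v p F g ∧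
          b - e ^ p + algebraMap R N γ ^ (p * (p - 1)) * e = algebraMap R N s ^ p * g)) := by
  classical
  obtain ⟨J, _, θ, j₀, hfam⟩ := hF
  obtain ⟨D, hDfg, hSD, hθD, hDF, hdec⟩ := hfam.dec (γ ^ (p * p)) (pow_ne_zero _ hγ) hγp {b}
    (fun s hs => by rw [Finset.mem_singleton] at hs; subst hs; exact ⟨hb, hvb⟩)
  have hft : Algebra.FiniteType R D := (Subalgebra.fg_iff_finiteType D).mp hDfg
  obtain ⟨e, g, w, heq⟩ := exists_as_reduction (D := D) hp hpm hγ hγp (fun j => ⟨θ j, hθD j⟩) j₀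
    (Subtype.ext hfam.one) (fun b => by
      obtain ⟨h, hh, t, ht, hbt⟩ := hdec b b.2
      refine ⟨fun j => ⟨h j, hh j⟩, ⟨t, ht⟩, Subtype.ext ?_⟩
      push_cast
      rw [hbt, map_pow]) ⟨b, hSD b (Finset.mem_singleton_self b)⟩
  have heq' : b - (e : N) ^ p + algebraMap R N γ ^ (p * (p - 1)) * (e : N) =
      algebraMap R N γ ^ (p * p) * (w : N) +
        ∑ j ∈ Finset.univ.erase j₀, θ j * (g j : N) ^ p := by
    have h1 := congrArg (Subtype.val) heq
    push_cast at h1
    exact h1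
  refine ⟨e, (hDF e e.2).1, (hDF e e.2).2, ?_⟩
  have hγN : algebraMap R N γ ≠ 0 := hB.ne_zero hγ
  by_cases hall : ∀ j ≠ j₀, v (g j : N) ≤ v (algebraMap R N γ ^ p)
  · left
    refine ⟨w + ∑ j ∈ Finset.univ.erase j₀, θ j * ((g j : N) / algebraMap R N γ ^ p) ^ p, ?_, ?_, ?_⟩
    · have hγF : algebraMap R N γ ∈ F := (hDF _ (D.algebraMap_mem γ)).1
      exact F.add_mem (hDF w w.2).1 (F.sum_mem (fun j _ => F.mul_mem (hfam.mem j)
        (F.pow_mem (F.div_mem (hDF _ (g j).2).1 (F.pow_mem hγF p)) p)))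
    · refine (v.map_add _ _).trans (max_le (hDF w w.2).2 (v.map_sum_le (fun j hj => ?_)))
      rw [map_mul, map_pow, map_div₀]
      refine mul_le_one' (hfam.le j) (pow_le_one₀ zero_le ?_)
      exact div_le_one_of_le₀ (hall j (Finset.ne_of_mem_erase hj)) zero_le
    · rw [heq', mul_add, Finset.mul_sum]
      congr 1
      refine Finset.sum_congr rfl (fun j _ => ?_)
      rw [div_pow, ← pow_mul]
      field_simp
  · right
    push Not at hall
    obtain ⟨j', hj', hlt'⟩ := hall
    have hne : (Finset.univ.erase j₀).Nonempty := ⟨j', Finset.mem_erase.mpr ⟨hj', Finset.mem_univ _⟩⟩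
    obtain ⟨j₁, hj₁, hmax⟩ := Finset.exists_max_image _ (fun j => v (g j : N)) hne
    have hlt : v (algebraMap R N γ ^ p) < v (g j₁ : N) :=
      hlt'.trans_le (hmax j' (Finset.mem_erase.mpr ⟨hj', Finset.mem_univ _⟩))
    obtain ⟨r, hr⟩ := hB.val (g j₁ : N) (hDF _ (g j₁).2).2
    have hlt2 : v (algebraMap R N (γ ^ p)) < v (algebraMap R N r) := by
      rw [map_pow, hr]; exact hlt
    obtain ⟨γ', hγ'u, hγ'⟩ := hB.dvd_of_lt hlt2
    have hr0 : r ≠ 0 := by
      rintro rfl
      rw [map_zero, map_zero] at hlt2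
      exact not_lt_zero hlt2
    have hrN : algebraMap R N r ≠ 0 := hB.ne_zero hr0
    have hvr : v (algebraMap R N r) ≠ 0 := (v.ne_zero_iff).mpr hrN
    refine ⟨γ', r, hγ'u, ?_, hγ'.symm, _, hfam.np hB.toBase₀ hp hpm
      (fun j => (g j : N) / algebraMap R N r) ?_ ?_ (Finset.ne_of_mem_erase hj₁) ?_
      (ε := algebraMap R N γ' ^ p * w) ?_ ?_, ?_⟩
    · rintro rfl
      rw [zero_mul] at hγ'
      exact hγ (eq_zero_of_pow_eq_zero hγ')
    · intro j
      exact F.div_mem (hDF _ (g j).2).1 (hDF _ (D.algebraMap_mem r)).1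
    · intro j hj
      rw [map_div₀, hr]
      exact div_le_one_of_le₀ (hmax j (Finset.mem_erase.mpr ⟨hj, Finset.mem_univ _⟩)) zero_le
    · rw [map_div₀, hr, div_self]
      rw [← hr]; exact hvr
    · rw [map_mul, map_pow]
      calc v (algebraMap R N γ') ^ p * v (w : N) ≤ v (algebraMap R N γ') ^ p * 1 :=
            mul_le_mul' le_rfl (hDF w w.2).2
        _ = v (algebraMap R N γ') ^ p := mul_one _
        _ < 1 := pow_lt_one₀ zero_le (hB.lt γ' hγ'u) hp.ne_zero
    · exact F.mul_mem (F.pow_mem (hDF _ (D.algebraMap_mem γ')).1 p) (hDF w w.2).1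
    · rw [heq', mul_add, add_comm]
      congr 1
      · rw [Finset.mul_sum]
        refine Finset.sum_congr rfl (fun j _ => ?_)
        rw [div_pow]
        field_simp
      · rw [← mul_assoc, ← mul_pow, ← map_mul, mul_comm r γ', ← hγ', map_pow, ← pow_mul]

end NormalForm

end K26.Stab
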