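import Groth.Agent.FlatMor.K26.StabDefs
import Groth.Agent.FlatMor.K26.LemN
import Groth.Agent.FlatMor.K58.SubPBasis
import Mathlib.LinearAlgebra.Matrix.NonsingularInverse
import Mathlib.LinearAlgebra.Matrix.Charpoly.Coeff
import Mathlib.Algebra.BigOperators.Field

/-!
The class of `p`-finite subfields is stable under adjoining a standard generator.
-/

set_option autoImplicit false
universe u

namespace K26.Stab

section Nak

variable {V : Type*} [CommRing V] [IsLocalRing V]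

theorem isUnit_det_one_sub {J : Type*} [Fintype J] [DecidableEq J] (A : Matrix J J V)
    (hA : ∀ i j, A i j ∈ IsLocalRing.maximalIdeal V) : IsUnit (1 - A).det := by
  by_contra hu
  have h1 : (1 - A).det ∈ IsLocalRing.maximalIdeal V := hu
  rw [← IsLocalRing.residue_eq_zero_iff, RingHom.map_det] at h1
  have h2 : (IsLocalRing.residue V).mapMatrix (1 - A) = 1 := by
    rw [map_sub, map_one]
    have h3 : (IsLocalRing.residue V).mapMatrix A = 0 := by
      ext i j
      exact (IsLocalRing.residue_eq_zero_iff _).mpr (hA i j)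
    rw [h3, sub_zero]
  rw [h2, Matrix.det_one] at h1
  exact one_ne_zero h1

theorem exists_dec_of_residue {p : ℕ} (hp : p.Prime)
    {δ : V} (hδ : δ ∣ (p : V)) {J I : Type*} [Fintype J] [Fintype I] (θ : J → V) (τ : I → V)
    (hdec : ∀ b : V, ∃ h : J → V, δ ∣ b - ∑ j, θ j * h j ^ p)
    (hres : ∀ j, ∃ q : I → V, θ j - ∑ i, τ i * q i ^ p ∈ IsLocalRing.maximalIdeal V)
    (hdiv : ∀ m ∈ IsLocalRing.maximalIdeal V, ∃ s ∈ IsLocalRing.maximalIdeal V, s ^ p ∣ m) :
    ∀ b : V, ∃ q : I → V, δ ∣ b - ∑ i, τ i * q i ^ p := by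
  classical
  by_cases hδu : IsUnit δ
  · intro b
    exact ⟨0, hδu.dvd⟩
  have : Fact p.Prime := ⟨hp⟩
  -- work modulo `δ`
  let W := V ⧸ Ideal.span {δ}
  obtain ⟨W, _, π, hπ, hker⟩ : ∃ (W : Type _) (_ : CommRing W) (π : V →+* W),
      Function.Surjective π ∧ ∀ x, π x = 0 ↔ δ ∣ x :=
    ⟨V ⧸ Ideal.span {δ}, inferInstance, Ideal.Quotient.mk _, Ideal.Quotient.mk_surjective, fun x => by
      rw [Ideal.Quotient.eq_zero_iff_mem, Ideal.mem_span_singleton]⟩
  have hnt : Nontrivial W := by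
    refine ⟨1, 0, fun h => hδu ?_⟩
    have h1 : π 1 = 0 := by rw [map_one]; exact h
    exact isUnit_of_dvd_one ((hker 1).mp h1)
  have hpW : (p : W) = 0 := by
    have h1 := (hker (p : V)).mpr hδ
    rwa [map_natCast] at h1
  have hchar : CharP W p := (CharP.charP_iff_prime_eq_zero hp).mpr hpW
  choose q hq using hres
  choose s hs hsd using fun j => hdiv _ (hq j)
  choose u hu using hsd
  choose t ht using fun j => hdec (u j)
  -- the matrix
  let A : Matrix J J V := fun j l => s j * t j l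
  have hA : ∀ i j, A i j ∈ IsLocalRing.maximalIdeal V := fun i j =>
    Ideal.mul_mem_right _ _ (hs i)
  have hdet := isUnit_det_one_sub A hA
  let B : Matrix J J V := (1 - A)⁻¹
  have hBA : B * (1 - A) = 1 := Matrix.nonsing_inv_mul _ hdet
  -- the relation in `W`
  have hrel : ∀ j, π (θ j) - ∑ l, π (A j l) ^ p * π (θ l) = ∑ i, π (τ i) * π (q j i) ^ p := by
    intro j
    have h1 : π (u j) = ∑ l, π (θ l) * π (t j l) ^ p := by
      have h2 := (hker _).mpr (ht j)
      rw [map_sub, sub_eq_zero, map_sum] at h2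
      rw [h2]
      simp only [map_mul, map_pow]
    have h3 := congrArg π (hu j)
    rw [map_sub, map_sum, map_mul, map_pow, h1] at h3
    simp only [map_mul, map_pow] at h3
    have h4 : ∑ l, π (A j l) ^ p * π (θ l) = π (s j) ^ p * ∑ l, π (θ l) * π (t j l) ^ p := by
      rw [Finset.mul_sum]
      refine Finset.sum_congr rfl (fun l _ => ?_)
      simp only [A, map_mul, mul_pow]
      ring
    rw [h4, ← h3]
    ring
  -- the Frobenius matrices
  let φ : V →+* W := (frobenius W p).comp π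
  have hφ : ∀ x, φ x = π x ^ p := fun x => rfl
  have hBA' : φ.mapMatrix B * (1 - φ.mapMatrix A) = 1 := by
    rw [← map_one φ.mapMatrix, ← map_sub, ← map_mul, hBA]
  have hθ : ∀ j, π (θ j) = ∑ l, π (B j l) ^ p * ∑ i, π (τ i) * π (q l i) ^ p := by
    intro j
    have h1 : (fun j => π (θ j)) = (φ.mapMatrix B).mulVec
        ((1 - φ.mapMatrix A).mulVec (fun j => π (θ j))) := by
      rw [Matrix.mulVec_mulVec, hBA', Matrix.one_mulVec]
    have h2 := congrFun h1 j
    rw [h2]
    simp only [Matrix.mulVec, dotProduct]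
    refine Finset.sum_congr rfl (fun l _ => ?_)
    rw [← hrel l]
    congr 1
    simp only [Matrix.sub_apply, sub_mul, Finset.sum_sub_distrib, Matrix.one_apply, ite_mul, one_mul,
      zero_mul, Finset.sum_ite_eq, Finset.mem_univ, if_true]
    rfl
  intro b
  obtain ⟨h, hh⟩ := hdec b
  refine ⟨fun i => ∑ j, (∑ l, B j l * q l i) * h j, ?_⟩
  rw [← hker, map_sub, sub_eq_zero]
  have h1 : π b = ∑ j, π (θ j) * π (h j) ^ p := by
    have h2 := (hker _).mpr hh
    rw [map_sub, sub_eq_zero, map_sum] at h2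
    rw [h2]
    simp only [map_mul, map_pow]
  rw [h1, map_sum]
  have h3 : ∀ i, π (τ i * (∑ j, (∑ l, B j l * q l i) * h j) ^ p) =
      ∑ j, ∑ l, π (B j l) ^ p * (π (τ i) * π (q l i) ^ p) * π (h j) ^ p := by
    intro i
    simp only [map_mul, map_pow, map_sum]
    rw [sum_pow_char, Finset.mul_sum]
    refine Finset.sum_congr rfl (fun j _ => ?_)
    rw [mul_pow, sum_pow_char, Finset.sum_mul, Finset.mul_sum]
    refine Finset.sum_congr rfl (fun l _ => ?_)
    rw [mul_pow]
    ring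
  simp only [h3]
  rw [Finset.sum_comm]
  refine Finset.sum_congr rfl (fun j _ => ?_)
  rw [hθ j, Finset.sum_comm, Finset.sum_mul]
  refine Finset.sum_congr rfl (fun l _ => ?_)
  rw [Finset.mul_sum, Finset.sum_mul]

end Nak

section VF

variable {N : Type*} [Field N] {Γ₀ : Type*} [LinearOrderedCommGroupWithZero Γ₀]
  (v : Valuation N Γ₀) (F : Subfield N)

/-- The valuation ring of the subfield `F`. -/
def VF : Subring N where
  carrier := {x | x ∈ F ∧ v x ≤ 1}
  mul_mem' := by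
    rintro a b ⟨ha, ha'⟩ ⟨hb, hb'⟩
    exact ⟨F.mul_mem ha hb, by rw [map_mul]; exact mul_le_one' ha' hb'⟩
  one_mem' := ⟨F.one_mem, by rw [map_one]⟩
  add_mem' := by
    rintro a b ⟨ha, ha'⟩ ⟨hb, hb'⟩
    exact ⟨F.add_mem ha hb, (v.map_add _ _).trans (max_le ha' hb')⟩
  zero_mem' := ⟨F.zero_mem, by rw [map_zero]; exact zero_le⟩
  neg_mem' := by
    rintro a ⟨ha, ha'⟩
    exact ⟨F.neg_mem ha, by rw [v.map_neg]; exact ha'⟩

variable {v F}

theorem mem_VF {x : N} : x ∈ VF v F ↔ x ∈ F ∧ v x ≤ 1 := Iff.rfl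

theorem VF_isUnit_iff (x : VF v F) : IsUnit x ↔ v (x : N) = 1 := by
  constructor
  · intro hx
    obtain ⟨y, hy⟩ := hx.exists_right_inv
    have h1 : v (x : N) * v (y : N) = 1 := by
      rw [← map_mul, ← Subring.coe_mul, hy, Subring.coe_one, map_one]
    refine le_antisymm x.2.2 ?_
    calc (1 : Γ₀) = v (x : N) * v (y : N) := h1.symm
      _ ≤ v (x : N) * 1 := mul_le_mul' le_rfl y.2.2
      _ = v (x : N) := mul_one _
  · intro hx
    have hx0 : (x : N) ≠ 0 := by
      intro h0; rw [h0, map_zero] at hx; exact zero_ne_one hx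
    refine IsUnit.of_mul_eq_one ⟨(x : N)⁻¹, F.inv_mem x.2.1, by rw [map_inv₀, hx, inv_one]⟩ ?_
    exact Subtype.ext (mul_inv_cancel₀ hx0)

instance : IsLocalRing (VF v F) := by
  refine IsLocalRing.of_nonunits_add ?_
  intro a b ha hb
  rw [mem_nonunits_iff, VF_isUnit_iff] at ha hb ⊢
  exact (lt_of_le_of_lt (v.map_add _ _) (max_lt (lt_of_le_of_ne a.2.2 ha)
    (lt_of_le_of_ne b.2.2 hb))).ne

theorem VF_mem_maximalIdeal (x : VF v F) : x ∈ IsLocalRing.maximalIdeal (VF v F) ↔ v (x : N) < 1 := by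
  rw [IsLocalRing.mem_maximalIdeal, mem_nonunits_iff, VF_isUnit_iff]
  exact ⟨fun h => lt_of_le_of_ne x.2.2 h, fun h => h.ne⟩

theorem VF_residue_eq_zero (x : VF v F) : IsLocalRing.residue (VF v F) x = 0 ↔ v (x : N) < 1 := by
  rw [IsLocalRing.residue_eq_zero_iff, VF_mem_maximalIdeal]

variable (v) in
/-- The inclusion of valuation rings of subfields. -/
def VF.incl {F F' : Subfield N} (h : F ≤ F') : VF v F →+* VF v F' where
  toFun x := ⟨x, h x.2.1, x.2.2⟩
  map_one' := rfl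
  map_mul' _ _ := rfl
  map_zero' := rfl
  map_add' _ _ := rfl

instance {F F' : Subfield N} (h : F ≤ F') : IsLocalHom (VF.incl v h) where
  map_nonunit x hx := by
    rw [VF_isUnit_iff] at hx ⊢
    exact hx

/-- Residue fields of the valuation rings of two subfields. -/
theorem exists_residue_data {N : Type u} [Field N] {v : Valuation N Γ₀} {F F' : Subfield N}
    (h : F ≤ F') :
    ∃ (κ κ' : Type u) (_ : Field κ) (_ : Field κ') (_ : Algebra κ κ') (ρ : VF v F →+* κ)
      (ρ' : VF v F' →+* κ'), (∀ x : VF v F, algebraMap κ κ' (ρ x) = ρ' (VF.incl v h x)) ∧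
      Function.Surjective ρ ∧ (∀ x : VF v F, ρ x = 0 ↔ v (x : N) < 1) ∧
      (∀ x : VF v F', ρ' x = 0 ↔ v (x : N) < 1) :=
  ⟨IsLocalRing.ResidueField (VF v F), IsLocalRing.ResidueField (VF v F'), inferInstance,
    inferInstance, (IsLocalRing.ResidueField.map (VF.incl v h)).toAlgebra, IsLocalRing.residue _,
    IsLocalRing.residue _, fun _ => rfl, IsLocalRing.residue_surjective, VF_residue_eq_zero,
    VF_residue_eq_zero⟩

end VF

section Gen

variable {N : Type*} [Field N]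

/-- Elements of `F(z)` for `z` satisfying a monic equation of degree `p`. -/
theorem exists_coords {F : Subfield N} {z : N} {p : ℕ} (a : ℕ → N) (ha : ∀ i, a i ∈ F)
    (hz : z ^ p + ∑ i ∈ Finset.range p, a i * z ^ i = 0) {x : N}
    (hx : x ∈ Subfield.closure ((F : Set N) ∪ {z})) :
    ∃ c : Fin p → N, (∀ i, c i ∈ F) ∧ x = ∑ i, c i * z ^ (i : ℕ) := by
  classical
  let Q : Polynomial F := Polynomial.X ^ p + ∑ i ∈ Finset.range p,
    Polynomial.C (⟨a i, ha i⟩ : F) * Polynomial.X ^ i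
  have hdeg : (∑ i ∈ Finset.range p,
    Polynomial.C (⟨a i, ha i⟩ : F) * Polynomial.X ^ i).degree < (p : WithBot ℕ) := by
    refine lt_of_le_of_lt (Polynomial.degree_sum_le _ _) ?_
    rw [Finset.sup_lt_iff (WithBot.bot_lt_coe _)]
    intro i hi
    exact lt_of_le_of_lt (Polynomial.degree_C_mul_X_pow_le _ _)
      (WithBot.coe_lt_coe.mpr (Finset.mem_range.mp hi))
  have hQ : Q.Monic := Polynomial.monic_X_pow_add hdeg
  have hQd : Q.natDegree = p := by
    have h1 : Q.degree = (p : WithBot ℕ) := by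
      rw [Polynomial.degree_add_eq_left_of_degree_lt] <;> rw [Polynomial.degree_X_pow]
      exact hdeg
    exact Polynomial.natDegree_eq_of_degree_eq_some h1
  have hQz : Polynomial.aeval z Q = 0 := by
    simp only [Q, map_add, map_pow, Polynomial.aeval_X, map_sum, map_mul, Polynomial.aeval_C]
    exact hz
  have hint : IsIntegral F z := ⟨Q, hQ, hQz⟩
  have hx' : x ∈ IntermediateField.adjoin F {z} := by
    have h1 : Set.range (algebraMap F N) = (F : Set N) := by
      ext y; exact ⟨by rintro ⟨y, rfl⟩; exact y.2, fun hy => ⟨⟨y, hy⟩, rfl⟩⟩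
    change x ∈ Subfield.closure (Set.range (algebraMap F N) ∪ {z})
    rwa [h1]
  rw [← IntermediateField.mem_toSubalgebra,
    IntermediateField.adjoin_simple_toSubalgebra_of_isAlgebraic hint.isAlgebraic,
    Algebra.adjoin_singleton_eq_range_aeval] at hx'
  obtain ⟨q, rfl⟩ := hx'
  change ∃ c : Fin p → N, (∀ i, c i ∈ F) ∧ Polynomial.aeval z q = ∑ i, c i * z ^ (i : ℕ)
  refine ⟨fun i => ((q %ₘ Q).coeff i : N), fun i => ((q %ₘ Q).coeff i).2, ?_⟩
  have h2 : Polynomial.aeval z q = Polynomial.aeval z (q %ₘ Q) := by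
    conv_lhs => rw [← Polynomial.modByMonic_add_div q Q]
    rw [map_add, map_mul, hQz, zero_mul, add_zero]
  rw [h2]
  have h3 : (q %ₘ Q).natDegree < p ∨ q %ₘ Q = 0 := by
    by_cases h0 : q %ₘ Q = 0
    · exact Or.inr h0
    · left
      rw [← hQd]
      exact Polynomial.natDegree_lt_natDegree h0 (Polynomial.degree_modByMonic_lt q hQ)
  rcases h3 with h3 | h3
  · rw [Polynomial.aeval_eq_sum_range' h3, Finset.sum_range]
    exact Finset.sum_congr rfl (fun i _ => Algebra.smul_def _ _)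
  · rw [h3, map_zero]
    simp

end Gen

section Clos

variable {R : Type u} [CommRing R] [IsDomain R] [ValuationRing R]
  {N : Type u} [Field N] [Algebra R N] {Γ₀ : Type*} [LinearOrderedCommGroupWithZero Γ₀]
  {v : Valuation N Γ₀}

theorem coords_le {F : Subfield N} {z : N} {p : ℕ}
    (hzi : ∀ c : Fin p → N, (∀ i, c i ∈ F) → (∀ i, v (c i) ≤ 1) → v (∑ i, c i * z ^ (i : ℕ)) < 1 →
      ∀ i, v (c i) < 1) (c : Fin p → N) (hc : ∀ i, c i ∈ F) (i : Fin p) :
    v (c i) ≤ v (∑ i, c i * z ^ (i : ℕ)) := by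
  by_contra hlt
  push Not at hlt
  obtain ⟨i₀, -, hi₀⟩ := Finset.exists_max_image Finset.univ (fun i => v (c i)) ⟨i, Finset.mem_univ i⟩
  have h1 : v (∑ i, c i * z ^ (i : ℕ)) < v (c i₀) := hlt.trans_le (hi₀ i (Finset.mem_univ i))
  have h2 : v (c i₀) ≠ 0 := (lt_of_le_of_lt zero_le h1).ne'
  have h3 := hzi (fun i => c i / c i₀) (fun i => F.div_mem (hc i) (hc i₀)) (fun i => by
    rw [map_div₀]
    exact div_le_one_of_le₀ (hi₀ i (Finset.mem_univ i)) zero_le) (by
    have h4 : ∑ i, c i / c i₀ * z ^ (i : ℕ) = (∑ i, c i * z ^ (i : ℕ)) / c i₀ := by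
      rw [Finset.sum_div]
      exact Finset.sum_congr rfl (fun i _ => by ring)
    rw [h4, map_div₀]
    rw [div_lt_one₀ (zero_lt_iff.mpr h2)]
    exact h1) i₀
  simp only [map_div₀, div_self h2] at h3
  exact lt_irrefl _ h3

theorem Fam.algebraMap_mem {p : ℕ} {F : Subfield N} {J : Type} [Fintype J] {θ : J → N} {j₀ : J}
    (hF : Fam R v p F θ j₀) (r : R) : algebraMap R N r ∈ F := by
  obtain ⟨D, -, -, -, hD, -⟩ := hF.dec 1 one_ne_zero (one_dvd _) ∅ (by simp)
  exact (hD _ (D.algebraMap_mem r)).1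

/-- The residue field data for a standard generator. -/
theorem stdGen_residue (hB : Base R v) (hRf : ¬ IsField R) {p : ℕ} (hp : p.Prime)
    (hpm : ¬ IsUnit (p : R)) {F : Subfield N} {J : Type} [Fintype J] {θ : J → N} {j₀ : J}
    (hfam : Fam R v p F θ j₀) {z : N} (hvz : v z ≤ 1) (a : ℕ → R) (ha : ∀ i, ¬ IsUnit (a i)) {g : N}
    (hg : NP v p F g) (hzg : z ^ p + ∑ i ∈ Finset.range p, algebraMap R N (a i) * z ^ i = g) :
    ∃ J' : Finset J, j₀ ∈ J' ∧
      (∀ h : J' × Fin p → N, (∀ i, h i ∈ Subfield.closure ((F : Set N) ∪ {z})) →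
        (∀ i, v (h i) ≤ 1) → v (∑ i, θ i.1 * z ^ (i.2 : ℕ) * h i ^ p) < 1 → ∀ i, v (h i) < 1) ∧
      (∀ x ∈ F, v x ≤ 1 → ∃ h : J' × Fin p → N, (∀ i, h i ∈ F ∧ v (h i) ≤ 1) ∧
        v (x - ∑ i, θ i.1 * g ^ (i.2 : ℕ) * h i ^ p) < 1) ∧
      (∀ c : Fin p → N, (∀ i, c i ∈ F) → (∀ i, v (c i) ≤ 1) → v (∑ i, c i * z ^ (i : ℕ)) < 1 →
        ∀ i, v (c i) < 1) := by
  classical
  set F' := Subfield.closure ((F : Set N) ∪ {z}) with hF'
  have hFF' : F ≤ F' := fun x hx => Subfield.subset_closure (Or.inl hx)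
  have hzF' : z ∈ F' := Subfield.subset_closure (Or.inr rfl)
  have hRF := hfam.algebraMap_mem
  obtain ⟨κ, κ', _, _, _, ρ, ρ', hρ, hρs, hρ0, hρ0'⟩ := exists_residue_data (v := v) hFF'
  have hchar : (p : κ) = 0 := by
    have h1 := (hρ0 (p : VF v F)).mpr (by
      rw [Subring.coe_natCast]; exact hB.toBase₀.lt_natCast hpm)
    rwa [map_natCast] at h1
  let z' : VF v F' := ⟨z, hzF', hvz⟩
  let g' : VF v F := ⟨g, hg.mem, hg.le⟩
  have hζ : (ρ' z') ^ p = algebraMap κ κ' (ρ g') := by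
    rw [hρ, ← map_pow, ← sub_eq_zero, ← map_sub, hρ0']
    have h1 : ((z' ^ p - VF.incl v hFF' g' : VF v F') : N) =
        - ∑ i ∈ Finset.range p, algebraMap R N (a i) * z ^ i := by
      push_cast
      change z ^ p - g = _
      rw [← hzg]; ring
    rw [h1, v.map_neg]
    refine v.map_sum_lt one_ne_zero (fun i _ => ?_)
    rw [map_mul, map_pow]
    calc v (algebraMap R N (a i)) * v z ^ i ≤ v (algebraMap R N (a i)) * 1 :=
          mul_le_mul' le_rfl (pow_le_one₀ zero_le hvz)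
      _ < 1 := by rw [mul_one]; exact hB.lt _ (ha i)
  have hgp : ∀ h : κ, h ^ p ≠ ρ g' := by
    intro h hh
    obtain ⟨y, rfl⟩ := hρs h
    rw [← map_pow, ← sub_eq_zero, ← map_sub, hρ0] at hh
    refine hg.np y y.2.1 y.2.2 ?_
    rw [v.map_sub_swap]
    exact hh
  have hθmem : ∀ j, θ j ∈ VF v F := fun j => ⟨hfam.mem j, hfam.le j⟩
  have hind : ∀ h : J → κ, ∑ j, ρ ⟨θ j, hθmem j⟩ * h j ^ p = 0 → ∀ j, h j = 0 := by
    intro h hh j
    choose y hy using fun j => hρs (h j)
    have h1 : ρ (∑ j, ⟨θ j, hθmem j⟩ * y j ^ p) = 0 := by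
      rw [map_sum, ← hh]
      exact Finset.sum_congr rfl (fun j _ => by rw [map_mul, map_pow, hy])
    rw [hρ0] at h1
    rw [← hy j, hρ0]
    refine hfam.indep (fun j => (y j : N)) (fun j => (y j).2.1) (fun j => (y j).2.2) ?_ j
    simpa using h1
  have hspan : ∀ x : κ, ∃ h : J → κ, x = ∑ j, ρ ⟨θ j, hθmem j⟩ * h j ^ p := by
    intro x
    obtain ⟨y, rfl⟩ := hρs x
    obtain ⟨δ, hδ0, hδu, hδp⟩ : ∃ δ : R, δ ≠ 0 ∧ ¬ IsUnit δ ∧ δ ∣ (p : R) := by
      by_cases hp0 : (p : R) = 0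
      · obtain ⟨π, hπ0, hπu⟩ : ∃ π : R, π ≠ 0 ∧ ¬ IsUnit π := by
          by_contra hall
          push Not at hall
          exact hRf ⟨⟨0, 1, zero_ne_one⟩, mul_comm, fun {a} ha => (hall a ha).exists_right_inv⟩
        exact ⟨π, hπ0, hπu, by rw [hp0]; exact dvd_zero _⟩
      · exact ⟨p, hp0, hpm, dvd_rfl⟩
    obtain ⟨D, -, hSD, hθD, hD, hdec⟩ := hfam.dec δ hδ0 hδp {(y : N)} (fun s hs => by
      rw [Finset.mem_singleton] at hs; subst hs; exact y.2)
    obtain ⟨h, hh, t, ht, hy⟩ := hdec y (hSD _ (Finset.mem_singleton_self _))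
    refine ⟨fun j => ρ ⟨h j, hD _ (hh j)⟩, ?_⟩
    simp only [← map_pow, ← map_mul]
    rw [← map_sum, ← sub_eq_zero, ← map_sub, hρ0]
    have h1 : ((y - ∑ j, (⟨θ j, hθmem j⟩ : VF v F) * ⟨h j, hD _ (hh j)⟩ ^ p : VF v F) : N) =
        algebraMap R N δ * t := by
      push_cast
      rw [hy]; ring
    rw [h1, map_mul]
    calc v (algebraMap R N δ) * v t ≤ v (algebraMap R N δ) * 1 := mul_le_mul' le_rfl (hD t ht).2
      _ < 1 := by rw [mul_one]; exact hB.lt _ hδu
  obtain ⟨J', hj₀, hli, hsp, hzi⟩ := K58.SubPBasis.exists_subfamily hp hchar hζ hgp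
    (fun j => ρ ⟨θ j, hθmem j⟩) j₀ (by
      have : (⟨θ j₀, hθmem j₀⟩ : VF v F) = 1 := Subtype.ext hfam.one
      rw [this, map_one]) hind hspan
  have hzi' : ∀ c : Fin p → N, (∀ i, c i ∈ F) → (∀ i, v (c i) ≤ 1) →
      v (∑ i, c i * z ^ (i : ℕ)) < 1 → ∀ i, v (c i) < 1 := by
    intro c hc hvc hlt i
    have h1 := hzi (fun i => ρ ⟨c i, hc i, hvc i⟩) (by
      simp only [hρ, ← map_pow, ← map_mul]
      rw [← map_sum, hρ0']
      have h2 : ((∑ i, VF.incl v hFF' ⟨c i, hc i, hvc i⟩ * z' ^ (i : ℕ) : VF v F') : N) =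
        ∑ i, c i * z ^ (i : ℕ) := by
        push_cast
        rfl
      rw [h2]; exact hlt) i
    rw [hρ0] at h1
    exact h1
  refine ⟨J', hj₀, ?_, ?_, hzi'⟩
  · intro h hh hvh hlt
    -- residues lie in `κ[ζ]`
    have hmem : ∀ i, ρ' ⟨h i, hh i, hvh i⟩ ∈ Algebra.adjoin κ {ρ' z'} := by
      intro i
      obtain ⟨c, hc, hci⟩ := exists_coords (p := p)
        (fun i => if i = 0 then algebraMap R N (a 0) - g else algebraMap R N (a i))
        (fun i => by
          split_ifs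
          · exact F.sub_mem (hRF _) hg.mem
          · exact hRF _) (by
        have h3 : ∑ i ∈ Finset.range p, (if i = 0 then algebraMap R N (a 0) - g else
            algebraMap R N (a i)) * z ^ i = ∑ i ∈ Finset.range p, algebraMap R N (a i) * z ^ i - g := by
          have h4 : (0 : ℕ) ∈ Finset.range p := Finset.mem_range.mpr hp.pos
          rw [← Finset.add_sum_erase _ _ h4, ← Finset.add_sum_erase _
            (fun i => algebraMap R N (a i) * z ^ i) h4]
          have h5 : ∑ i ∈ (Finset.range p).erase 0, (if i = 0 then algebraMap R N (a 0) - g else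
            algebraMap R N (a i)) * z ^ i =
            ∑ i ∈ (Finset.range p).erase 0, algebraMap R N (a i) * z ^ i :=
            Finset.sum_congr rfl (fun i hi => by rw [if_neg (Finset.ne_of_mem_erase hi)])
          rw [h5, if_pos rfl, pow_zero]
          ring
        rw [h3, ← hzg]; ring) (hh i)
      have hvc : ∀ l, v (c l) ≤ 1 := fun l =>
        (coords_le hzi' c hc l).trans (by rw [← hci]; exact hvh i)
      have h6 : (⟨h i, hh i, hvh i⟩ : VF v F') =
          ∑ l, VF.incl v hFF' ⟨c l, hc l, hvc l⟩ * z' ^ (l : ℕ) := by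
        apply Subtype.ext
        push_cast
        exact hci
      rw [h6, map_sum]
      refine Subalgebra.sum_mem _ (fun l _ => ?_)
      rw [map_mul, map_pow, ← hρ]
      exact Subalgebra.mul_mem _ (Subalgebra.algebraMap_mem _ _)
        (Subalgebra.pow_mem _ (Algebra.subset_adjoin (Set.mem_singleton _)) _)
    intro i
    have h7 := hli (fun i => ⟨ρ' ⟨h i, hh i, hvh i⟩, hmem i⟩) (by
      simp only [hρ, ← map_pow, ← map_mul]
      rw [← map_sum, hρ0']
      have h2 : ((∑ i : J' × Fin p, VF.incl v hFF' ⟨θ i.1, hθmem i.1⟩ * z' ^ (i.2 : ℕ) *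
          ⟨h i, hh i, hvh i⟩ ^ p : VF v F') : N) =
        ∑ i : J' × Fin p, θ i.1 * z ^ (i.2 : ℕ) * h i ^ p := by
        push_cast
        rfl
      rw [h2]; exact hlt) i
    have h8 : ρ' ⟨h i, hh i, hvh i⟩ = 0 := congrArg Subtype.val h7
    rw [hρ0'] at h8
    exact h8
  · intro x hx hvx
    obtain ⟨h, hh⟩ := hsp (ρ ⟨x, hx, hvx⟩)
    choose y hy using fun i => hρs (h i)
    refine ⟨fun i => y i, fun i => (y i).2, ?_⟩
    have h1 : ρ (⟨x, hx, hvx⟩ - ∑ i : J' × Fin p, ⟨θ i.1, hθmem i.1⟩ * g' ^ (i.2 : ℕ) * y i ^ p) = 0 := by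
      rw [map_sub, map_sum, sub_eq_zero, hh]
      exact Finset.sum_congr rfl (fun i _ => by rw [map_mul, map_mul, map_pow, map_pow, hy])
    rw [hρ0] at h1
    push_cast at h1
    exact h1

end Clos

section Frob

variable {W : Type*} [CommRing W] (p : ℕ) [Fact p.Prime] [CharP W p]

/-- The additive subgroup of elements `∑ τ_i w_i ^ p`. -/
def frobSpan {I : Type*} [Fintype I] (τ : I → W) : AddSubgroup W where
  carrier := {x | ∃ w : I → W, x = ∑ i, τ i * w i ^ p}
  zero_mem' := ⟨0, by simp [(Fact.out : p.Prime).ne_zero]⟩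
  add_mem' := by
    rintro _ _ ⟨w, rfl⟩ ⟨w', rfl⟩
    refine ⟨w + w', ?_⟩
    rw [← Finset.sum_add_distrib]
    exact Finset.sum_congr rfl (fun i _ => by rw [Pi.add_apply, add_pow_char, mul_add])
  neg_mem' := by
    rintro _ ⟨w, rfl⟩
    refine ⟨-w, ?_⟩
    rw [← Finset.sum_neg_distrib]
    refine Finset.sum_congr rfl (fun i _ => ?_)
    have h1 : (-w i) ^ p = - (w i ^ p) := by
      have h2 := sub_pow_char (p := p) (0 : W) (w i)
      rw [zero_sub, zero_pow (Fact.out : p.Prime).ne_zero, zero_sub] at h2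
      exact h2
    rw [Pi.neg_apply, h1]
    ring

variable {p} {I : Type*} [Fintype I] {τ : I → W}

theorem frobSpan_mul_pow {x : W} (hx : x ∈ frobSpan p τ) (w : W) : w ^ p * x ∈ frobSpan p τ := by
  obtain ⟨w', rfl⟩ := hx
  refine ⟨fun i => w * w' i, ?_⟩
  rw [Finset.mul_sum]
  exact Finset.sum_congr rfl (fun i _ => by rw [mul_pow]; ring)

theorem frobSpan_basis (i : I) : τ i ∈ frobSpan p τ := by
  classical
  refine ⟨fun j => if j = i then 1 else 0, ?_⟩
  rw [Finset.sum_eq_single i]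
  · simp
  · intro j _ hj
    simp [hj, (Fact.out : p.Prime).ne_zero]
  · intro h; exact absurd (Finset.mem_univ i) h

theorem frobSpan_mul {I' : Type*} [Fintype I'] {τ' : I' → W} {a : W}
    (ha : ∀ i, a * τ i ∈ frobSpan p τ') {x : W} (hx : x ∈ frobSpan p τ) :
    a * x ∈ frobSpan p τ' := by
  obtain ⟨w, rfl⟩ := hx
  rw [Finset.mul_sum]
  refine AddSubgroup.sum_mem _ (fun i _ => ?_)
  have h1 : a * (τ i * w i ^ p) = w i ^ p * (a * τ i) := by ring
  rw [h1]
  exact frobSpan_mul_pow (ha i) _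

end Frob

section DecAdjoin

variable {R : Type u} [CommRing R] [IsDomain R] [ValuationRing R] [IsSepClosed (FractionRing R)]
  {N : Type u} [Field N] [Algebra R N]

theorem exists_pow_sub {p : ℕ} (hp : p.Prime) (hpm : ¬ IsUnit (p : R)) {δ : R} (hδ : δ ≠ 0) (c : R) :
    ∃ x : R, δ ∣ x ^ p - c := by
  obtain ⟨z, hz⟩ := K26.SemiLin.exists_solution_approx (K := FractionRing R) hp (char_or hp hpm)
    (fun _ _ : Fin 1 => (0 : R)) (fun _ => c) δ hδ
  refine ⟨z 0, ?_⟩
  have := hz 0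
  simpa using this

theorem exists_pow_associated {p : ℕ} (hp : p.Prime) (hpm : ¬ IsUnit (p : R)) (hRf : ¬ IsField R)
    {c : R} (hc : c ≠ 0) : ∃ d : R, Associated c (d ^ p) := by
  obtain ⟨π, hπ0, hπu⟩ : ∃ π : R, π ≠ 0 ∧ ¬ IsUnit π := by
    by_contra hall
    push Not at hall
    exact hRf ⟨⟨0, 1, zero_ne_one⟩, mul_comm, fun {a} ha => (hall a ha).exists_right_inv⟩
  obtain ⟨d, t, ht⟩ := exists_pow_sub hp hpm (mul_ne_zero hc hπ0) c
  have hu : IsUnit (1 + π * t) := by
    by_contra hnu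
    have h1 : π * t ∈ IsLocalRing.maximalIdeal R := Ideal.mul_mem_right _ _ hπu
    have h2 : (1 + π * t) - π * t ∈ IsLocalRing.maximalIdeal R := Ideal.sub_mem _ hnu h1
    rw [add_sub_cancel_right] at h2
    exact h2 isUnit_one
  obtain ⟨u, hu⟩ := hu
  refine ⟨d, u, ?_⟩
  rw [hu]
  linear_combination -ht

theorem dec_adjoin_aux {p : ℕ} (hp : p.Prime) (hpm : ¬ IsUnit (p : R)) {δ : R} (hδ : δ ≠ 0)
    {D T W : Type*} [CommRing D] [CommRing T] [CommRing W] [CharP W p] [Algebra R D] [Algebra D T]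
    [Algebra R T] [IsScalarTower R D T] (π : T →+* W) (hπδ : π (algebraMap R T δ) = 0) {z : T}
    {J : Type} [Fintype J] (θ : J → D) {J' : Finset J} {a : ℕ → R} {g : D}
    (hzg : z ^ p + ∑ i ∈ Finset.range p, algebraMap R T (a i) * z ^ i = algebraMap D T g)
    (hD : ∀ b : D, ∃ h : J → D, ∃ t : D, b = ∑ j, θ j * h j ^ p + algebraMap R D δ * t)
    (hq : ∀ j : J, ∃ q : J' × Fin p → D, ∃ t : D,
      θ j = ∑ i : J' × Fin p, θ i.1 * g ^ (i.2 : ℕ) * q i ^ p + algebraMap R D δ * t)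
    (P : Polynomial D) : ∃ h : J' × Fin p → W,
      π (Polynomial.aeval z P) = ∑ i : J' × Fin p, π (algebraMap D T (θ i.1) * z ^ (i.2 : ℕ)) * h i ^ p := by
  classical
  have : Fact p.Prime := ⟨hp⟩
  let G : AddSubgroup W := frobSpan p (fun l : Fin p => π z ^ (l : ℕ))
  let B : AddSubgroup W := frobSpan p (fun i : J' × Fin p => π (algebraMap D T (θ i.1) * z ^ (i.2 : ℕ)))
  have hδD : ∀ t : D, π (algebraMap D T (algebraMap R D δ * t)) = 0 := by
    intro t
    rw [map_mul, ← IsScalarTower.algebraMap_apply, map_mul, hπδ, zero_mul]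
  -- `z G ⊆ G`
  have hG1 : (1 : W) ∈ G := by
    have h1 := frobSpan_basis (p := p) (τ := fun l : Fin p => π z ^ (l : ℕ)) ⟨0, hp.pos⟩
    simpa using h1
  have hzG : ∀ x ∈ G, π z * x ∈ G := by
    intro x hx
    refine frobSpan_mul (fun l => ?_) hx
    by_cases hl : (l : ℕ) + 1 < p
    · have h1 := frobSpan_basis (p := p) (τ := fun l : Fin p => π z ^ (l : ℕ)) ⟨l + 1, hl⟩
      have h2 : π z * π z ^ (l : ℕ) = π z ^ ((l : ℕ) + 1) := by ring
      rw [h2]; exact h1
    · have h3 : (l : ℕ) + 1 = p := by have := l.2; omega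
      have h2 : π z * π z ^ (l : ℕ) = π z ^ p * 1 := by
        rw [mul_one]
        conv_rhs => rw [← h3]
        ring
      rw [h2]
      exact frobSpan_mul_pow hG1 _
  have hznG : ∀ n : ℕ, ∀ x ∈ G, π z ^ n * x ∈ G := by
    intro n
    induction n with
    | zero => intro x hx; simpa using hx
    | succ n ih =>
      intro x hx
      have h1 : π z ^ (n + 1) * x = π z * (π z ^ n * x) := by ring
      rw [h1]; exact hzG _ (ih x hx)
  have hRpow : ∀ r : R, ∃ w : W, π (algebraMap R T r) = w ^ p := by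
    intro r
    obtain ⟨x, t, ht⟩ := exists_pow_sub hp hpm hδ r
    refine ⟨π (algebraMap R T x), ?_⟩
    rw [← map_pow, ← map_pow, ← sub_eq_zero, ← map_sub, ← map_sub]
    have h1 : r - x ^ p = δ * (-t) := by linear_combination -ht
    rw [h1, map_mul, map_mul, hπδ, zero_mul]
  have hRG : ∀ r : R, ∀ x ∈ G, π (algebraMap R T r) * x ∈ G := by
    intro r x hx
    obtain ⟨w, hw⟩ := hRpow r
    rw [hw]; exact frobSpan_mul_pow hx _
  have hgG : ∀ x ∈ G, π (algebraMap D T g) * x ∈ G := by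
    intro x hx
    rw [← hzg]
    have h1 : π (z ^ p + ∑ i ∈ Finset.range p, algebraMap R T (a i) * z ^ i) * x =
        π z ^ p * x + ∑ i ∈ Finset.range p, π (algebraMap R T (a i)) * (π z ^ i * x) := by
      rw [map_add, map_sum, add_mul, Finset.sum_mul, map_pow]
      congr 1
      exact Finset.sum_congr rfl (fun i _ => by rw [map_mul, map_pow]; ring)
    rw [h1]
    exact G.add_mem (hznG _ _ hx) (G.sum_mem (fun i _ => hRG _ _ (hznG _ _ hx)))
  have hgnG : ∀ n : ℕ, π (algebraMap D T g) ^ n ∈ G := by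
    intro n
    induction n with
    | zero => simpa using hG1
    | succ n ih =>
      rw [pow_succ, mul_comm]; exact hgG _ ih
  have hθG : ∀ j : J', ∀ x ∈ G, π (algebraMap D T (θ j)) * x ∈ B := by
    intro j x hx
    refine frobSpan_mul (fun l => ?_) hx
    have h1 := frobSpan_basis (p := p)
      (τ := fun i : J' × Fin p => π (algebraMap D T (θ i.1) * z ^ (i.2 : ℕ))) (j, l)
    simpa using h1
  have hθB : ∀ j : J, π (algebraMap D T (θ j)) ∈ B := by
    intro j
    obtain ⟨q, t, hqt⟩ := hq j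
    rw [hqt, map_add, map_add, hδD, add_zero, map_sum, map_sum]
    refine B.sum_mem (fun i _ => ?_)
    have h1 : π (algebraMap D T (θ i.1 * g ^ (i.2 : ℕ) * q i ^ p)) = π (algebraMap D T (q i)) ^ p *
        (π (algebraMap D T (θ i.1)) * π (algebraMap D T g) ^ (i.2 : ℕ)) := by
      simp only [map_mul, map_pow]; ring
    rw [h1]
    exact frobSpan_mul_pow (hθG _ _ (hgnG _)) _
  have hDB : ∀ d : D, π (algebraMap D T d) ∈ B := by
    intro d
    obtain ⟨h, t, hht⟩ := hD d
    rw [hht, map_add, map_add, hδD, add_zero, map_sum, map_sum]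
    refine B.sum_mem (fun j _ => ?_)
    have h1 : π (algebraMap D T (θ j * h j ^ p)) = π (algebraMap D T (h j)) ^ p *
        π (algebraMap D T (θ j)) := by
      simp only [map_mul, map_pow]; ring
    rw [h1]
    exact frobSpan_mul_pow (hθB j) _
  have hzB : ∀ x ∈ B, π z * x ∈ B := by
    intro x hx
    refine frobSpan_mul (fun i => ?_) hx
    have h1 : π z * π (algebraMap D T (θ i.1) * z ^ (i.2 : ℕ)) =
        π (algebraMap D T (θ i.1)) * (π z * π z ^ (i.2 : ℕ)) := by
      rw [map_mul, map_pow]; ring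
    rw [h1]
    exact hθG _ _ (hzG _ (frobSpan_basis (p := p) (τ := fun l : Fin p => π z ^ (l : ℕ)) i.2))
  have hznB : ∀ n : ℕ, ∀ x ∈ B, π z ^ n * x ∈ B := by
    intro n
    induction n with
    | zero => intro x hx; simpa using hx
    | succ n ih =>
      intro x hx
      have h1 : π z ^ (n + 1) * x = π z * (π z ^ n * x) := by ring
      rw [h1]; exact hzB _ (ih x hx)
  have hfin : π (Polynomial.aeval z P) ∈ B := by
    rw [Polynomial.aeval_eq_sum_range, map_sum]
    refine B.sum_mem (fun i _ => ?_)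
    rw [Algebra.smul_def, map_mul, map_pow, mul_comm]
    exact hznB _ _ (hDB _)
  exact hfin

/-- The decomposition in `D[z]`. -/
theorem dec_adjoin {p : ℕ} (hp : p.Prime) (hpm : ¬ IsUnit (p : R)) {δ : R} (hδ : δ ≠ 0)
    (hδp : δ ∣ (p : R)) {D : Subalgebra R N} {z : N}
    {J : Type} [Fintype J] (θ : J → N) (hθ : ∀ j, θ j ∈ D) {J' : Finset J} {a : ℕ → R} {g : N}
    (hgD : g ∈ D) (hzg : z ^ p + ∑ i ∈ Finset.range p, algebraMap R N (a i) * z ^ i = g)
    (hD : ∀ b ∈ D, ∃ h : J → N, (∀ j, h j ∈ D) ∧ ∃ t ∈ D,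
      b = ∑ j, θ j * h j ^ p + algebraMap R N δ * t)
    (hq : ∀ j : J, ∃ q : J' × Fin p → N, (∀ i, q i ∈ D) ∧ ∃ t ∈ D,
      θ j = ∑ i : J' × Fin p, θ i.1 * g ^ (i.2 : ℕ) * q i ^ p + algebraMap R N δ * t)
    {b : N} (hb : b ∈ Algebra.adjoin D {z}) :
    ∃ h : J' × Fin p → N, (∀ i, h i ∈ Algebra.adjoin D {z}) ∧ ∃ t ∈ Algebra.adjoin D {z},
      b = ∑ i : J' × Fin p, θ i.1 * z ^ (i.2 : ℕ) * h i ^ p + algebraMap R N δ * t := by
  classical
  let T := Algebra.adjoin D {z}
  let z' : T := ⟨z, Algebra.subset_adjoin (Set.mem_singleton z)⟩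
  obtain ⟨W, _, π, hπ, hker⟩ : ∃ (W : Type u) (_ : CommRing W) (π : T →+* W),
      Function.Surjective π ∧ ∀ x, π x = 0 ↔ algebraMap R T δ ∣ x :=
    ⟨T ⧸ Ideal.span {algebraMap R T δ}, inferInstance, Ideal.Quotient.mk _,
      Ideal.Quotient.mk_surjective, fun x => by
      rw [Ideal.Quotient.eq_zero_iff_mem, Ideal.mem_span_singleton]⟩
  have hTN : ∀ x : T, (x : N) ∈ Algebra.adjoin D {z} := fun x => x.2
  rcases subsingleton_or_nontrivial W with hW | hW
  · obtain ⟨t, ht⟩ := (hker ⟨b, hb⟩).mp (Subsingleton.elim _ _)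
    refine ⟨0, fun i => Subalgebra.zero_mem _, t, hTN t, ?_⟩
    have h1 : b = algebraMap R N δ * (t : N) := congrArg Subtype.val ht
    rw [← h1]
    simp [hp.ne_zero]
  have hpW : (p : W) = 0 := by
    obtain ⟨t, ht⟩ := hδp
    have h1 := (hker (p : T)).mpr ⟨algebraMap R T t, by
      rw [← map_mul, ← ht, map_natCast]⟩
    rwa [map_natCast] at h1
  have hchar : CharP W p := (CharP.charP_iff_prime_eq_zero hp).mpr hpW
  have hb' := hb
  rw [Algebra.adjoin_singleton_eq_range_aeval] at hb'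
  obtain ⟨P, hP⟩ := hb'
  obtain ⟨h, hh⟩ := dec_adjoin_aux (R := R) (D := D) (T := T) hp hpm hδ π
    ((hker _).mpr dvd_rfl) (z := z') (fun j => ⟨θ j, hθ j⟩) (a := a) (g := ⟨g, hgD⟩)
    (by
      apply Subtype.ext
      push_cast
      exact hzg)
    (fun b => by
      obtain ⟨h, hh, t, ht, hbt⟩ := hD b b.2
      refine ⟨fun j => ⟨h j, hh j⟩, ⟨t, ht⟩, Subtype.ext ?_⟩
      push_cast
      exact hbt)
    (fun j => by
      obtain ⟨q, hq', t, ht, hbt⟩ := hq j
      refine ⟨fun i => ⟨q i, hq' i⟩, ⟨t, ht⟩, Subtype.ext ?_⟩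
      push_cast
      exact hbt) P
  choose w hw using fun i => hπ (h i)
  have h2 : Polynomial.aeval (z' : N) P = b := hP
  have h4 : π ((Polynomial.aeval z' P : T) - ∑ i : J' × Fin p,
      algebraMap D T ⟨θ i.1, hθ i.1⟩ * z' ^ (i.2 : ℕ) * w i ^ p) = 0 := by
    rw [map_sub, hh, map_sum, sub_eq_zero]
    exact Finset.sum_congr rfl (fun i _ => by rw [map_mul π _ (w i ^ p), map_pow π (w i), hw])
  obtain ⟨t, ht⟩ := (hker _).mp h4
  refine ⟨fun i => w i, fun i => hTN _, t, hTN t, ?_⟩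
  have h5 := congrArg Subtype.val ht
  push_cast at h5
  rw [h2] at h5
  rw [← sub_eq_iff_eq_add']
  exact h5

end DecAdjoin

section Main

variable {R : Type u} [CommRing R] [IsDomain R] [ValuationRing R] [IsSepClosed (FractionRing R)]
  {N : Type u} [Field N] [Algebra R N] {Γ₀ : Type u} [LinearOrderedCommGroupWithZero Γ₀]
  {v : Valuation N Γ₀}

/-- Change of family modulo `δ` in the valuation ring of `F`. -/
theorem exists_dec_VF (hB : Base R v) (hRf : ¬ IsField R) {p : ℕ} (hp : p.Prime)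
    (hpm : ¬ IsUnit (p : R)) {F : Subfield N} {J : Type} [Fintype J] {θ : J → N} {j₀ : J}
    (hfam : Fam R v p F θ j₀) {g : N} (hgF : g ∈ F) (hvg : v g ≤ 1) {J' : Finset J}
    (hsp : ∀ x ∈ F, v x ≤ 1 → ∃ h : J' × Fin p → N, (∀ i, h i ∈ F ∧ v (h i) ≤ 1) ∧
        v (x - ∑ i, θ i.1 * g ^ (i.2 : ℕ) * h i ^ p) < 1)
    {δ : R} (hδ : δ ≠ 0) (hδp : δ ∣ (p : R)) {x : N} (hx : x ∈ F) (hvx : v x ≤ 1) :
    ∃ q : J' × Fin p → N, (∀ i, q i ∈ F ∧ v (q i) ≤ 1) ∧ ∃ t, (t ∈ F ∧ v t ≤ 1) ∧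
      x = ∑ i : J' × Fin p, θ i.1 * g ^ (i.2 : ℕ) * q i ^ p + algebraMap R N δ * t := by
  classical
  have hRF : ∀ r : R, algebraMap R N r ∈ VF v F := fun r => ⟨hfam.algebraMap_mem r, hB.le r⟩
  have hθmem : ∀ j, θ j ∈ VF v F := fun j => ⟨hfam.mem j, hfam.le j⟩
  let g' : VF v F := ⟨g, hgF, hvg⟩
  have hmain := exists_dec_of_residue (V := VF v F) hp (δ := ⟨algebraMap R N δ, hRF δ⟩) (by
      obtain ⟨t, ht⟩ := hδp
      refine ⟨⟨algebraMap R N t, hRF t⟩, Subtype.ext ?_⟩
      push_cast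
      rw [← map_mul, ← ht, map_natCast])
    (fun j => ⟨θ j, hθmem j⟩) (fun i : J' × Fin p => ⟨θ i.1, hθmem i.1⟩ * g' ^ (i.2 : ℕ))
    (by
      intro b
      obtain ⟨D, -, hSD, -, hDF, hdec⟩ := hfam.dec δ hδ hδp {(b : N)} (fun s hs => by
        rw [Finset.mem_singleton] at hs; subst hs; exact b.2)
      obtain ⟨h, hh, t, ht, hbt⟩ := hdec b (hSD _ (Finset.mem_singleton_self _))
      refine ⟨fun j => ⟨h j, hDF _ (hh j)⟩, ⟨t, hDF _ ht⟩, Subtype.ext ?_⟩
      push_cast
      rw [sub_eq_iff_eq_add']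
      exact hbt)
    (by
      intro j
      obtain ⟨h, hh, hlt⟩ := hsp (θ j) (hfam.mem j) (hfam.le j)
      refine ⟨fun i => ⟨h i, hh i⟩, ?_⟩
      rw [VF_mem_maximalIdeal]
      push_cast
      exact hlt)
    (by
      intro m hm
      rw [VF_mem_maximalIdeal] at hm
      by_cases hm0 : (m : N) = 0
      · refine ⟨0, Ideal.zero_mem _, 0, Subtype.ext ?_⟩
        rw [hm0]; simp
      obtain ⟨r, hr⟩ := hB.val m m.2.2
      have hr0 : r ≠ 0 := by
        rintro rfl
        rw [map_zero, map_zero] at hr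
        exact hm0 ((v.zero_iff).mp hr.symm)
      obtain ⟨d, u, hdu⟩ := exists_pow_associated hp hpm hRf hr0
      have hvd : v (algebraMap R N d) ^ p = v (m : N) := by
        rw [← map_pow, ← map_pow, ← hdu, map_mul, map_mul, hB.unit u.isUnit, mul_one, hr]
      have hvm0 : v (m : N) ≠ 0 := (v.ne_zero_iff).mpr hm0
      have hd0 : algebraMap R N d ≠ 0 := by
        intro h0
        rw [h0, map_zero, zero_pow hp.ne_zero] at hvd
        exact hvm0 hvd.symm
      refine ⟨⟨algebraMap R N d, hRF d⟩, ?_, ⟨(m : N) / algebraMap R N d ^ p,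
        F.div_mem m.2.1 (F.pow_mem (hRF d).1 p), ?_⟩, Subtype.ext ?_⟩
      · rw [VF_mem_maximalIdeal]
        change v (algebraMap R N d) < 1
        by_contra hge
        push Not at hge
        have := one_le_pow₀ (n := p) hge
        rw [hvd] at this
        exact absurd hm (not_lt.mpr this)
      · rw [map_div₀, map_pow, hvd, div_self hvm0]
      · push_cast
        rw [mul_div_cancel₀]
        exact pow_ne_zero _ hd0)
  obtain ⟨q, t, ht⟩ := hmain ⟨x, hx, hvx⟩
  refine ⟨fun i => q i, fun i => (q i).2, t, t.2, ?_⟩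
  have h1 := congrArg Subtype.val ht
  push_cast at h1
  rw [sub_eq_iff_eq_add'] at h1
  exact h1

/-- The class of `p`-finite fields is stable under adjoining a standard generator, and the valuation
ring is generated by the standard generator. -/
theorem stdGen_closure (hB : Base R v) (hRf : ¬ IsField R) {p : ℕ} (hp : p.Prime)
    (hpm : ¬ IsUnit (p : R)) {F : Subfield N} (hF : Good R v p F) {z : N} (hz : StdGen R v p F z) :
    Good R v p (Subfield.closure ((F : Set N) ∪ {z})) ∧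
    EFT v F (Subfield.closure ((F : Set N) ∪ {z})) := by
  classical
  obtain ⟨J, _, θ, j₀, hfam⟩ := hF
  obtain ⟨hvz, a, ha, g, hg, hzg⟩ := hz
  obtain ⟨J', hj₀, hli, hsp, hzi⟩ := stdGen_residue hB hRf hp hpm hfam hvz a ha hg hzg
  have hdecVF := fun (δ : R) (hδ : δ ≠ 0) (hδp : δ ∣ (p : R)) (x : N) (hx : x ∈ F) (hvx : v x ≤ 1) =>
    exists_dec_VF hB hRf hp hpm hfam hg.mem hg.le hsp hδ hδp hx hvx
  set F' := Subfield.closure ((F : Set N) ∪ {z}) with hF'
  have hFF' : F ≤ F' := fun x hx => Subfield.subset_closure (Or.inl hx)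
  have hzF' : z ∈ F' := Subfield.subset_closure (Or.inr rfl)
  have hRF := hfam.algebraMap_mem
  -- coordinates
  have hcoord : ∀ x ∈ F', v x ≤ 1 → ∃ c : Fin p → N, (∀ i, c i ∈ F ∧ v (c i) ≤ 1) ∧
      x = ∑ i, c i * z ^ (i : ℕ) := by
    intro x hx hvx
    obtain ⟨c, hc, hci⟩ := exists_coords (p := p)
      (fun i => if i = 0 then algebraMap R N (a 0) - g else algebraMap R N (a i))
      (fun i => by
        split_ifs
        · exact F.sub_mem (hRF _) hg.mem
        · exact hRF _) (by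
      have h3 : ∑ i ∈ Finset.range p, (if i = 0 then algebraMap R N (a 0) - g else
          algebraMap R N (a i)) * z ^ i = ∑ i ∈ Finset.range p, algebraMap R N (a i) * z ^ i - g := by
        have h4 : (0 : ℕ) ∈ Finset.range p := Finset.mem_range.mpr hp.pos
        rw [← Finset.add_sum_erase _ _ h4, ← Finset.add_sum_erase _
          (fun i => algebraMap R N (a i) * z ^ i) h4]
        have h5 : ∑ i ∈ (Finset.range p).erase 0, (if i = 0 then algebraMap R N (a 0) - g else
          algebraMap R N (a i)) * z ^ i =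
          ∑ i ∈ (Finset.range p).erase 0, algebraMap R N (a i) * z ^ i :=
          Finset.sum_congr rfl (fun i hi => by rw [if_neg (Finset.ne_of_mem_erase hi)])
        rw [h5, if_pos rfl, pow_zero]
        ring
      rw [h3, ← hzg]; ring) hx
    exact ⟨c, fun i => ⟨hc i, (coords_le hzi c hc i).trans (by rw [← hci]; exact hvx)⟩, hci⟩
  refine ⟨⟨J' × Fin p, inferInstance, fun i => θ i.1 * z ^ (i.2 : ℕ), (⟨j₀, hj₀⟩, ⟨0, hp.pos⟩),
    ⟨?_, ?_, ?_, hli, ?_⟩⟩, ?_⟩
  · exact fun i => F'.mul_mem (hFF' (hfam.mem _)) (F'.pow_mem hzF' _)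
  · intro i
    rw [map_mul, map_pow]
    exact mul_le_one' (hfam.le _) (pow_le_one₀ zero_le hvz)
  · simp [hfam.one]
  · intro δ hδ hδp S hS
    choose! c hc hcS using fun (s : N) (hs : s ∈ S) => hcoord s (hS s hs).1 (hS s hs).2
    choose q hq t ht hqt using fun j => hdecVF δ hδ hδp (θ j) (hfam.mem j) (hfam.le j)
    obtain ⟨D, hDfg, hSD, hθD, hDF, hdec⟩ := hfam.dec δ hδ hδp
      (insert g ((S ×ˢ Finset.univ).image (fun x : N × Fin p => c x.1 x.2) ∪
        (Finset.univ.image (fun x : J × (J' × Fin p) => q x.1 x.2) ∪ Finset.univ.image t))) (by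
      intro s hs
      rw [Finset.mem_insert, Finset.mem_union, Finset.mem_union] at hs
      rcases hs with rfl | hs | hs | hs
      · exact ⟨hg.mem, hg.le⟩
      · obtain ⟨x, hx, rfl⟩ := Finset.mem_image.mp hs
        exact hc x.1 (Finset.mem_product.mp hx).1 x.2
      · obtain ⟨x, -, rfl⟩ := Finset.mem_image.mp hs
        exact hq x.1 x.2
      · obtain ⟨x, -, rfl⟩ := Finset.mem_image.mp hs
        exact ht x)
    have hgD : g ∈ D := hSD _ (Finset.mem_insert_self _ _)
    have hcD : ∀ s ∈ S, ∀ i, c s i ∈ D := fun s hs i => hSD _ (Finset.mem_insert_of_mem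
      (Finset.mem_union_left _ (Finset.mem_image.mpr ⟨(s, i), Finset.mem_product.mpr
        ⟨hs, Finset.mem_univ _⟩, rfl⟩)))
    have hqD : ∀ j i, q j i ∈ D := fun j i => hSD _ (Finset.mem_insert_of_mem
      (Finset.mem_union_right _ (Finset.mem_union_left _ (Finset.mem_image.mpr
        ⟨(j, i), Finset.mem_univ _, rfl⟩))))
    have htD : ∀ j, t j ∈ D := fun j => hSD _ (Finset.mem_insert_of_mem
      (Finset.mem_union_right _ (Finset.mem_union_right _ (Finset.mem_image.mpr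
        ⟨j, Finset.mem_univ _, rfl⟩))))
    let T := Algebra.adjoin D {z}
    have hDT : ∀ x ∈ D, x ∈ T := fun x hx => T.algebraMap_mem ⟨x, hx⟩
    have hzT : z ∈ T := Algebra.subset_adjoin (Set.mem_singleton z)
    refine ⟨T.restrictScalars R, ?_, ?_, ?_, ?_, ?_⟩
    · rw [Subalgebra.fg_iff_finiteType]
      have h1 : Algebra.FiniteType R D := (Subalgebra.fg_iff_finiteType D).mp hDfg
      have h2 : Algebra.FiniteType D T :=
        (Subalgebra.fg_iff_finiteType _).mp (Subalgebra.fg_adjoin_finset {z} |> fun h => by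
          rw [Finset.coe_singleton] at h; exact h)
      have h3 : Algebra.FiniteType R T := Algebra.FiniteType.trans (S := D) h1 h2
      exact h3
    · intro s hs
      rw [Subalgebra.mem_restrictScalars, hcS s hs]
      exact T.sum_mem (fun i _ => T.mul_mem (hDT _ (hcD s hs i)) (T.pow_mem hzT _))
    · intro i
      rw [Subalgebra.mem_restrictScalars]
      exact T.mul_mem (hDT _ (hθD _)) (T.pow_mem hzT _)
    · intro x hx
      rw [Subalgebra.mem_restrictScalars] at hx
      have h1 : x ∈ VF v F' := by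
        induction hx using Algebra.adjoin_induction with
        | mem x hx =>
          rw [Set.mem_singleton_iff] at hx
          subst hx; exact ⟨hzF', hvz⟩
        | algebraMap d => exact ⟨hFF' (hDF d d.2).1, (hDF d d.2).2⟩
        | add x y _ _ hx hy => exact (VF v F').add_mem hx hy
        | mul x y _ _ hx hy => exact (VF v F').mul_mem hx hy
      exact h1
    · intro b hb
      rw [Subalgebra.mem_restrictScalars] at hb
      obtain ⟨h, hh, t', ht', hbt⟩ := dec_adjoin hp hpm hδ hδp θ hθD hgD hzg hdec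
        (fun j => ⟨q j, hqD j, t j, htD j, hqt j⟩) hb
      exact ⟨h, hh, t', ht', hbt⟩
  · refine ⟨{z}, fun t ht => ?_, fun x hx hvx => ?_⟩
    · rw [Finset.mem_singleton] at ht
      subst ht; exact ⟨hzF', hvz⟩
    · obtain ⟨c, hc, hcx⟩ := hcoord x hx hvx
      refine ⟨x, ?_, 1, Subring.one_mem _, by rw [map_one], mul_one _⟩
      have hzC : z ∈ Subring.closure ({x | x ∈ F ∧ v x ≤ 1} ∪ (({z} : Finset N) : Set N)) :=
        Subring.subset_closure (Or.inr (by simp))
      rw [hcx]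
      exact Subring.sum_mem _ (fun i _ => Subring.mul_mem _ (Subring.subset_closure (Or.inl (hc i)))
        (Subring.pow_mem _ hzC _))

end Main

end K26.Stab
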