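import Mathlib.RingTheory.Valuation.Basic
import Mathlib.RingTheory.Valuation.ValuationRing
import Mathlib.RingTheory.FiniteType
import Mathlib.FieldTheory.IsSepClosed
import Mathlib.Algebra.Field.Subfield.Basic
import Mathlib.Algebra.CharP.Defs

/-!
Definitions for the stability theorem (arbitrary rank, separably closed base).

`R` is a valuation ring, `N` a field extension of its fraction field, `v` a valuation of `N`
extending the one of `R` and with the same value group. `Fam R v p F θ j₀` says that the subfield `F` is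
"`p`-finite": the residues of the `θ j` are a basis of the residue field of `F` over its subfield of
`p`-th powers, and this decomposition holds approximately in finitely generated `R`-subalgebras of
the valuation ring of `F`.
-/

set_option autoImplicit false

namespace K26.Stab

variable (R : Type*) [CommRing R] {N : Type*} [Field N] [Algebra R N] {Γ₀ : Type*}
  [LinearOrderedCommGroupWithZero Γ₀] (v : Valuation N Γ₀)

/-- `v` extends the valuation of the valuation ring `R`. -/
structure Base₀ : Prop where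
  inj : Function.Injective (algebraMap R N)
  le : ∀ r : R, v (algebraMap R N r) ≤ 1
  lt : ∀ r : R, ¬ IsUnit r → v (algebraMap R N r) < 1

/-- `v` extends the valuation of the valuation ring `R`, and has the same value group. -/
structure Base : Prop extends Base₀ R v where
  val : ∀ x : N, v x ≤ 1 → ∃ r : R, v (algebraMap R N r) = v x

variable {R v} in
theorem Base₀.unit (h : Base₀ R v) {r : R} (hr : IsUnit r) : v (algebraMap R N r) = 1 := by
  obtain ⟨u, rfl⟩ := hr
  refine le_antisymm (h.le _) ?_
  have h1 : v (algebraMap R N u) * v (algebraMap R N (↑u⁻¹ : R)) = 1 := by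
    rw [← map_mul, ← map_mul, Units.mul_inv, map_one, map_one]
  calc (1 : Γ₀) = v (algebraMap R N u) * v (algebraMap R N (↑u⁻¹ : R)) := h1.symm
    _ ≤ v (algebraMap R N u) * 1 := mul_le_mul' le_rfl (h.le _)
    _ = v (algebraMap R N u) := mul_one _

/-- The `p`-family `θ` for the subfield `F`. -/
structure Fam (p : ℕ) (F : Subfield N) {J : Type} [Fintype J] (θ : J → N) (j₀ : J) : Prop where
  mem : ∀ j, θ j ∈ F
  le : ∀ j, v (θ j) ≤ 1
  one : θ j₀ = 1
  indep : ∀ h : J → N, (∀ j, h j ∈ F) → (∀ j, v (h j) ≤ 1) → v (∑ j, θ j * h j ^ p) < 1 →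
    ∀ j, v (h j) < 1
  dec : ∀ δ : R, δ ≠ 0 → δ ∣ (p : R) → ∀ S : Finset N, (∀ s ∈ S, s ∈ F ∧ v s ≤ 1) →
    ∃ D : Subalgebra R N, D.FG ∧ (∀ s ∈ S, s ∈ D) ∧ (∀ j, θ j ∈ D) ∧ (∀ x ∈ D, x ∈ F ∧ v x ≤ 1) ∧
      ∀ b ∈ D, ∃ h : J → N, (∀ j, h j ∈ D) ∧
        ∃ t ∈ D, b = ∑ j, θ j * h j ^ p + algebraMap R N δ * t

/-- The subfield `F` is `p`-finite. -/
def Good (p : ℕ) (F : Subfield N) : Prop :=
  ∃ (J : Type) (_ : Fintype J) (θ : J → N) (j₀ : J), Fam R v p F θ j₀

variable {R}

/-- `g` is an element of the valuation ring of `F` whose residue is not a `p`-th power. -/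
structure NP (p : ℕ) (F : Subfield N) (g : N) : Prop where
  mem : g ∈ F
  le : v g ≤ 1
  np : ∀ h ∈ F, v h ≤ 1 → ¬ v (g - h ^ p) < 1

variable (R)

/-- `z` is a standard generator over `F`: it satisfies a monic equation `z ^ p + ∑ a_i z ^ i = g` with
`a_i` in the maximal ideal of `R` and `g` in the valuation ring of `F` with residue not a `p`-th power. -/
def StdGen (p : ℕ) (F : Subfield N) (z : N) : Prop :=
  v z ≤ 1 ∧ ∃ a : ℕ → R, (∀ i, ¬ IsUnit (a i)) ∧ ∃ g : N, NP v p F g ∧
    z ^ p + ∑ i ∈ Finset.range p, algebraMap R N (a i) * z ^ i = g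

variable {R}

/-- `F'` is essentially of finite type over `F` at `v`: every element of the valuation ring of `F'` is a
fraction of elements of the ring generated by finitely many elements over the valuation ring
of `F`, with denominator a unit. -/
def EFT (F F' : Subfield N) : Prop :=
  ∃ T : Finset N, (∀ t ∈ T, t ∈ F' ∧ v t ≤ 1) ∧
    ∀ x ∈ F', v x ≤ 1 → ∃ a ∈ Subring.closure ({x | x ∈ F ∧ v x ≤ 1} ∪ (T : Set N)),
      ∃ b ∈ Subring.closure ({x | x ∈ F ∧ v x ≤ 1} ∪ (T : Set N)), v b = 1 ∧ x * b = a

end K26.Stab
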